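/-
Rank three actions with a Frobenius suborbit: the diophantine part of the case `d = 1`.

Main result (namespace `Cfsg.Agent.RankThreeFrob`): `arith_one`.
-/
import Mathlib

set_option autoImplicit false
set_option maxHeartbeats 1000000

namespace Cfsg.Agent.RankThreeFrob

theorem eq_of_mul_twelve {c₀ : ℤ} (h0 : 0 < c₀) (hev : Even c₀) (m : ℤ) (h : (c₀ + 2) * m = 12) :
    c₀ = 2 ∨ c₀ = 4 ∨ c₀ = 10 := by
  have hle := Int.le_of_dvd (by norm_num) (Dvd.intro m h)
  have h2 : c₀ ≤ 10 := by omega
  obtain ⟨w, hw⟩ := hev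
  interval_cases c₀ <;> omega

theorem eq_of_mul_six {c₀ : ℤ} (h0 : 0 < c₀) (hev : Even c₀) (m : ℤ) (h : (c₀ + 1) * m = 6) :
    c₀ = 2 := by
  have hle := Int.le_of_dvd (by norm_num) (Dvd.intro m h)
  have h2 : c₀ ≤ 5 := by omega
  obtain ⟨w, hw⟩ := hev
  interval_cases c₀ <;> omega

theorem arith_one_e_one {c₀ j a r s g : ℤ} (hc0 : 2 ≤ c₀) (hcev : Even c₀) (ha : 1 ≤ a)
    (hja : a ≤ j) (hj : j ≤ 3) (hsum : r + s = (j - a) * c₀ - a * c₀)
    (hprod : r * s = a * c₀ - (1 + j * c₀)) (hr : 1 ≤ r)
    (hg : (r - s) * g = (1 + j * c₀) * (1 + r * 2)) : False := by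
  obtain ⟨w, hw⟩ := hcev
  have hj1 : 1 ≤ j := ha.trans hja
  interval_cases j <;> interval_cases a
  · nlinarith
  · have hs : s = -r := by linarith
    subst hs
    subst hw
    have : (r - -r) * g % 2 = 0 := by
      rw [show (r - -r) * g = 2 * (r * g) by ring]; omega
    rw [hg] at this
    rw [show (1 + 2 * (w + w)) * (1 + r * 2) = 2 * (r + (w + w) * (1 + r * 2)) + 1 by ring] at this
    omega
  · nlinarith
  · -- `a = 1`
    have hs : s = c₀ - r := by linarith
    subst hs
    set x := r - c₀ with hx
    have h1 : x * (c₀ + x) = 2 * c₀ + 1 := by rw [hx]; linarith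
    have hx1 : 1 ≤ x := by nlinarith
    have hx3 : x ≤ 2 := by nlinarith
    interval_cases x <;> omega
  · -- `a = 2`
    have hs : s = -c₀ - r := by linarith
    subst hs
    have hr1 : r = 1 := by nlinarith
    subst hr1
    subst hw
    have : (1 - (-(w + w) - 1)) * g % 2 = 0 := by
      rw [show (1 - (-(w + w) - 1)) * g = 2 * ((w + 1) * g) by ring]; omega
    rw [hg] at this
    rw [show (1 + 3 * (w + w)) * (1 + 1 * 2) = 2 * (9 * w + 1) + 1 by ring] at this
    omega
  · nlinarith

theorem arith_one {c₀ e j a k lam μ ι ι' i r s g q : ℤ} (hc0 : 2 ≤ c₀) (hcev : Even c₀)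
    (he : 1 ≤ e) (ha : 1 ≤ a) (hja : a ≤ j) (hk : k = 1 + j * e * c₀)
    (hlam : lam = (j - a) * (e * c₀)) (hμ : μ = a * c₀)
    (hswap : (e + 1) * j * e * c₀ = (e + 2) * (ι + e * ι'))
    (hι : ι ≤ e * c₀) (hι' : ι' ≤ c₀) (hι0 : 0 ≤ ι) (hι'0 : 0 ≤ ι') (hi : 0 ≤ i)
    (hfi : (e + 2) * ι = lam + e * (i * c₀)) (hsum : r + s = lam - μ) (hprod : r * s = μ - k)
    (hr : 1 ≤ r) (hg : (r - s) * g = k * (1 + r * (e + 1)))
    (hq : (r - s) * q = r * (e + 2) - (e + 2) * ι + (k - r)) (hq0 : 0 ≤ q)
    (hcoset : (3 * c₀ < 4 * ι' ∨ (c₀ = 4 ∧ c₀ < 2 * ι')) → ι' = c₀) :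
    c₀ = 2 ∧ e = 2 ∧ j = 1 := by
  subst hk hlam hμ
  have hjb : j * (e + 1) ≤ 2 * (e + 2) := by
    refine le_of_mul_le_mul_right (a := e * c₀) ?_ (mul_pos (by omega) (by omega))
    calc j * (e + 1) * (e * c₀) = (e + 2) * (ι + e * ι') := by rw [← hswap]; ring
      _ ≤ (e + 2) * (e * c₀ + e * c₀) :=
        mul_le_mul_of_nonneg_left (add_le_add hι (mul_le_mul_of_nonneg_left hι' (by omega)))
          (by omega)
      _ = _ := by ring
  have hι'eq : (e + 2) * ι' = c₀ * (j * e + a - i) :=
    mul_left_cancel₀ (show e ≠ 0 by omega) (by linear_combination -hswap - hfi)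
  rcases eq_or_lt_of_le he with he1 | he2
  · -- `e = 1`
    subst he1
    exact (arith_one_e_one (c₀ := c₀) (j := j) (a := a) (r := r) (s := s) (g := g) hc0 hcev ha hja
      (by omega) (by linarith) (by linarith) hr (by linarith)).elim
  have hj2 : j ≤ 2 := by nlinarith
  have hj1 : 1 ≤ j := by omega
  interval_cases j
  · -- `j = 1`
    obtain rfl : a = 1 := by omega
    simp only [sub_self, zero_mul, zero_add, one_mul] at *
    have hs : s = -c₀ - r := by linarith
    subst hs
    set u := e - 1 - r with hu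
    have huc : u * c₀ = r * r - 1 := by rw [hu]; linarith
    have hu0 : 0 ≤ u := by nlinarith
    have hie : i ≤ e + 1 := by nlinarith
    rcases eq_or_lt_of_le hr with hr1 | hr2
    · subst hr1
      obtain rfl : e = 2 := by
        rcases mul_eq_zero.1 (huc.trans (by norm_num)) with h | h <;> omega
      refine ⟨?_, rfl, trivial⟩
      rcases eq_of_mul_twelve (by omega) hcev (8 - g) (by linear_combination -hg) with h | h | h
      · exact h
      · subst h
        have h1 : 6 * q = 12 - 8 * i := by linarith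
        have h2 : ι' = 3 - i := by omega
        have := hcoset (Or.inr ⟨rfl, by omega⟩)
        omega
      · subst h
        have h1 : 12 * q = 24 - 20 * i := by linarith
        omega
    have hu1 : 1 ≤ u := by
      rcases eq_or_lt_of_le hu0 with h | h
      · rw [← h, zero_mul] at huc; nlinarith
      · omega
    have hm : e + 2 ≤ 2 * c₀ := Int.le_of_dvd (by omega)
      ⟨ι + e * ι' - (e - 1) * c₀, by linear_combination hswap⟩
    rcases show i = 0 ∨ i = 1 ∨ 2 ≤ i by omega with h | h | h
    · subst h
      set m := q - r - 1 with hm'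
      have h1 : u * r = (2 * r + c₀) * m := by rw [hm', hu]; linarith
      have h2 : r * r - 1 = (2 * r + c₀) * (u - 2 * m) := by linarith
      have h3 : u = (2 * r + c₀) * (r * m - u * (u - 2 * m)) := by
        linear_combination r * h1 - u * h2
      have h4 : 2 * r + c₀ ≤ u := Int.le_of_dvd (by omega) ⟨_, h3⟩
      exfalso
      have h5 : r + 1 ≤ c₀ := by omega
      have h6 := mul_le_mul h4 h5 (by omega) hu0
      have h7 : (2 * r + c₀) * (r + 1) ≥ r * r := by nlinarith
      nlinarith
    · subst h
      rcases le_or_gt 7 e with h7 | h7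
      · exfalso
        have h1 : (e + 2) * ι' = c₀ * e := by linarith
        have h3 : 3 * c₀ < 4 * ι' := by
          by_contra hh
          nlinarith
        rw [hcoset (Or.inl h3)] at h1
        nlinarith
      · exfalso
        obtain ⟨w, hw⟩ := hcev
        have hre : r ≤ 4 := by omega
        interval_cases e <;> interval_cases r
        all_goals first
          | omega
          | (norm_num [hu] at huc hu1; omega)
          | norm_num [hu] at huc hu1
    · exfalso
      have h1 : e * c₀ ≤ (e + 1) * r + 1 := by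
        have : 0 ≤ (r - (-c₀ - r)) * q := mul_nonneg (by omega) hq0
        have : e * c₀ * 2 ≤ e * c₀ * i := mul_le_mul_of_nonneg_left h (by positivity)
        linarith
      have h2 : c₀ ≤ r + 1 := by
        by_contra hh
        have := mul_le_mul_of_nonneg_left (show r + 2 ≤ c₀ by omega) (show (0 : ℤ) ≤ e by omega)
        linarith
      have h3 : r - 1 ≤ u := by
        refine le_of_mul_le_mul_right (a := r + 1) ?_ (by omega)
        have := mul_le_mul_of_nonneg_left h2 hu0
        linarith
      have h4 : c₀ = r + 1 := by omega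
      have h5 : e = 2 * r := by omega
      rw [h4, h5] at h1
      have := mul_le_mul_of_nonneg_left (show (2 : ℤ) ≤ r by omega) (show (0 : ℤ) ≤ r by omega)
      linarith
  · -- `j = 2`
    exfalso
    interval_cases a
    · have h1 : (-s) * ((e - 1) * c₀ + -s) = (2 * e - 1) * c₀ + 1 := by
        linear_combination -hprod + s * hsum
      have hs1 : s ≤ -1 := by nlinarith
      obtain ⟨w, hw⟩ := hcev
      rcases show s = -1 ∨ s = -2 ∨ s ≤ -3 by omega with h | h | h
      · subst h; nlinarith
      · subst h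
        have : c₀ = 3 := by linarith
        omega
      · nlinarith
    · have hs : s = -(2 * c₀) - r := by linarith
      subst hs
      have hr' : r ≤ e - 1 := by nlinarith
      have hie : e ≤ i := by nlinarith
      have h1 : 0 ≤ (r - (-(2 * c₀) - r)) * q := mul_nonneg (by omega) hq0
      have h2 : e * c₀ * e ≤ e * c₀ * i := mul_le_mul_of_nonneg_left hie (by positivity)
      rcases show e = 2 ∨ 3 ≤ e by omega with he' | he'
      · subst he'
        obtain rfl : r = 1 := by omega
        obtain rfl := eq_of_mul_six (by omega) hcev (8 - g) (by linarith)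
        omega
      · have h3 : e * c₀ * (e - 2) ≤ r * (e + 1) + 1 := by linarith
        have h4 : c₀ * (e - 2) ≤ e := by nlinarith
        have h5 : e ≤ 4 := by nlinarith
        have h6 : c₀ ≤ 3 := by nlinarith
        obtain ⟨w, hw⟩ := hcev
        obtain rfl : c₀ = 2 := by omega
        interval_cases e <;> omega

end Cfsg.Agent.RankThreeFrob
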