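/-
Rank three actions whose point stabilisers act as Frobenius groups on one suborbit (for S2207):
setting, kernels, constants of the graph.

The relation `Adj` is the orbital of the Frobenius suborbit, `Far` the other non-trivial one.

Main definitions (namespace `Cfsg.Agent.RankThreeFrob`):
* `Data` : the hypotheses, symmetric in the point
* `Data.ker` : the regular normal subgroup of a point stabiliser on the adjacent points
* `Nums` : the numbers `k c l Λ d lam μ` of the configuration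
* `Nums.exists_nums`, the semiregularity lemmas and the basic arithmetic
-/
import Cfsg.Agent.Lib.FPF.Kernel
import Cfsg.Agent.Lib.Frobenius.Structure
import Cfsg.Agent.EqLemmas

set_option autoImplicit false
set_option linter.style.haveILetI false
set_option linter.unusedSectionVars false

namespace Cfsg.Agent.RankThreeFrob

open MulAction

variable {G X : Type*} [Group G] [MulAction G X] {Adj : X → X → Prop}

/-- The stabiliser of two points. -/
def pst (G : Type*) {X : Type*} [Group G] [MulAction G X] (P Q : X) : Subgroup G :=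
  stabilizer G P ⊓ stabilizer G Q

theorem mem_pst {P Q : X} {g : G} : g ∈ pst G P Q ↔ g • P = P ∧ g • Q = Q := Iff.rfl

theorem pst_comm (P Q : X) : pst G P Q = pst G Q P := inf_comm _ _

/-- Distinct and not adjacent. -/
def Far (Adj : X → X → Prop) (P Q : X) : Prop := P ≠ Q ∧ ¬ Adj P Q

/-- The number of common neighbours. -/
noncomputable def common (Adj : X → X → Prop) (P Q : X) : ℕ :=
  Nat.card {R : X // Adj P R ∧ Adj R Q}

/-- The setting. -/
structure Data (G X : Type*) [Group G] [MulAction G X] (Adj : X → X → Prop) : Prop where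
  faithful : ∀ g : G, (∀ x : X, g • x = x) → g = 1
  adj_smul : ∀ (g : G) {P Q : X}, Adj P Q → Adj (g • P) (g • Q)
  irrefl : ∀ P : X, ¬ Adj P P
  symm : ∀ {P Q : X}, Adj P Q → Adj Q P
  trans_pt : ∀ P Q : X, ∃ g : G, g • P = Q
  trans_adj : ∀ {P Q P' Q' : X}, Adj P Q → Adj P' Q' → ∃ g : G, g • P = P' ∧ g • Q = Q'
  trans_far : ∀ {P Q P' Q' : X}, Far Adj P Q → Far Adj P' Q' →
    ∃ g : G, g • P = P' ∧ g • Q = Q'
  exists_two : ∀ P : X, ∃ Q Q' : X, Adj P Q ∧ Adj P Q' ∧ Q ≠ Q'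
  exists_far : ∀ P : X, ∃ Q : X, Far Adj P Q
  frob : ∀ {g : G} {P Q Q' : X}, Adj P Q → Adj P Q' → Q ≠ Q' →
    g • P = P → g • Q = Q → g • Q' = Q' → g = 1
  exists_fix : ∀ {P Q : X}, Adj P Q → pst G P Q ≠ ⊥
  not_far_trans : ¬ ∀ P Q R : X, Far Adj P Q → Far Adj P R → Q = R ∨ Far Adj Q R
  not_adj_trans : ¬ ∀ P Q R : X, Adj P Q → Adj P R → Q = R ∨ Adj Q R

namespace Data

theorem adj_iff (S : Data G X Adj) (g : G) {P Q : X} : Adj (g • P) (g • Q) ↔ Adj P Q :=
  ⟨fun h => by simpa using S.adj_smul g⁻¹ h, S.adj_smul g⟩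

theorem far_smul (S : Data G X Adj) (g : G) {P Q : X} (h : Far Adj P Q) :
    Far Adj (g • P) (g • Q) :=
  ⟨fun e => h.1 (MulAction.injective g e), fun e => h.2 ((S.adj_iff g).1 e)⟩

theorem far_symm (S : Data G X Adj) {P Q : X} (h : Far Adj P Q) : Far Adj Q P :=
  ⟨h.1.symm, fun e => h.2 (S.symm e)⟩

theorem adj_ne (S : Data G X Adj) {P Q : X} (h : Adj P Q) : P ≠ Q :=
  fun e => S.irrefl P (e ▸ h)

theorem cases3 (P Q : X) : P = Q ∨ Adj P Q ∨ Far Adj P Q := by
  by_cases h : P = Q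
  · exact Or.inl h
  by_cases h' : Adj P Q
  · exact Or.inr (Or.inl h')
  · exact Or.inr (Or.inr ⟨h, h'⟩)

/-- An element fixing `P` and an adjacent point fixes no other point adjacent to `P`. -/
theorem fix_unique (S : Data G X Adj) {g : G} (hg : g ≠ 1) {P Q Q' : X} (h : Adj P Q)
    (h' : Adj P Q') (hP : g • P = P) (hQ : g • Q = Q) (hQ' : g • Q' = Q') : Q = Q' := by
  by_contra hne
  exact hg (S.frob h h' hne hP hQ hQ')

/-- An element fixing two points fixes none adjacent to both unless trivial. -/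
theorem eq_one_of_common (S : Data G X Adj) {g : G} {P Q R : X} (hPQ : P ≠ Q) (h : Adj P R)
    (h' : Adj R Q) (hP : g • P = P) (hQ : g • Q = Q) (hR : g • R = R) : g = 1 :=
  S.frob (S.symm h) h' hPQ hR hP hQ

theorem stabilizer_isFrobenius (S : Data G X Adj) {P Q : X} (h : Adj P Q) :
    Cfsg.IsFrobeniusComplement ((pst G P Q).subgroupOf (stabilizer G P)) := by
  refine ⟨?_, ?_, fun g hg => ?_⟩
  · rw [Ne, Subgroup.subgroupOf_eq_bot, disjoint_iff]
    intro e
    apply S.exists_fix h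
    rwa [inf_eq_left.2 (show pst G P Q ≤ stabilizer G P from inf_le_left)] at e
  · rw [Ne, Subgroup.subgroupOf_eq_top]
    intro hle
    obtain ⟨Q₁, Q₂, h1, h2, hne⟩ := S.exists_two P
    have key : ∀ R, Adj P R → R = Q := by
      intro R hR
      obtain ⟨g, hg, hgQ⟩ := S.trans_adj h hR
      exact hgQ.symm.trans (hle (show g ∈ stabilizer G P from hg)).2
    exact hne ((key _ h1).trans (key _ h2).symm)
  · rw [Subgroup.eq_bot_iff_forall]
    rintro x ⟨hx, hx'⟩
    rw [Subgroup.mem_subgroupOf] at hg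
    have hx : (x : G) ∈ pst G P Q := hx
    have hx' : ((g⁻¹ * x * g : stabilizer G P) : G) ∈ pst G P Q := (Frobenius.mem_conj_smul (G := stabilizer G P)).1 hx'
    have hgP : (g : G) • P = P := g.2
    have hgQ : (g : G) • Q ≠ Q := fun e => hg ⟨hgP, e⟩
    have hadj : Adj P ((g : G) • Q) := by
      have := S.adj_smul (g : G) h
      rwa [hgP] at this
    apply Subtype.ext
    refine S.frob h hadj hgQ.symm hx.1 hx.2 ?_
    have h2 : ((g : G)⁻¹ * x * g) • Q = Q := hx'.2
    rw [mul_smul, mul_smul, inv_smul_eq_iff] at h2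
    exact h2

section kernel

variable [Finite G]

/-- The elements of the stabiliser of `P` fixing no point adjacent to `P`, with `1`. -/
def kerSet (Adj : X → X → Prop) (P : X) : Set G :=
  {g | g • P = P ∧ (g = 1 ∨ ∀ Q, Adj P Q → g • Q ≠ Q)}

theorem exists_ker (S : Data G X Adj) (P : X) :
    ∃ K : Subgroup G, (K : Set G) = kerSet Adj P ∧ K ≤ stabilizer G P ∧
      Nat.card K = Nat.card {Q : X // Adj P Q} ∧ Group.IsNilpotent K ∧
      ∀ Q, Adj P Q → ∀ g : G, g • P = P → ∃ y ∈ K, ∃ x ∈ pst G P Q, g = y * x := by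
  obtain ⟨Q₀, -, h0, -, -⟩ := S.exists_two P
  have hF := S.stabilizer_isFrobenius h0
  set N := Frobenius.frobKernel hF with hN
  have hcoe : (N : Set (stabilizer G P)) = Cfsg.frobeniusKernel _ := Frobenius.coe_frobKernel hF
  have hmem : ∀ x : stabilizer G P, x ∈ N ↔ (x : G) ∈ kerSet Adj P := by
    intro x
    rw [← SetLike.mem_coe, hcoe, Frobenius.mem_kernel_iff]
    refine ⟨fun hx => ⟨x.2, ?_⟩, fun hx => ?_⟩
    · rcases hx with rfl | hx
      · exact Or.inl rfl
      refine Or.inr fun Q hQ hxQ => ?_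
      obtain ⟨g, hg, hgQ⟩ := S.trans_adj h0 hQ
      refine hx ⟨g, hg⟩ ?_
      rw [Subgroup.mem_subgroupOf]
      refine ⟨?_, ?_⟩
      · show (g⁻¹ * x * g) • P = P
        rw [mul_smul, mul_smul, hg, inv_smul_eq_iff, hg, MulAction.mem_stabilizer_iff.1 x.2]
      · show (g⁻¹ * x * g) • Q₀ = Q₀
        rw [mul_smul, mul_smul, hgQ, inv_smul_eq_iff, hgQ, hxQ]
    · rcases hx.2 with h1 | h1
      · exact Or.inl (Subtype.ext h1)
      refine Or.inr fun g hg => ?_
      rw [Subgroup.mem_subgroupOf] at hg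
      have h2 : ((g : G)⁻¹ * x * g) • Q₀ = Q₀ := hg.2
      rw [mul_smul, mul_smul, inv_smul_eq_iff] at h2
      refine h1 _ ?_ h2
      have := S.adj_smul (g : G) h0
      rwa [MulAction.mem_stabilizer_iff.1 g.2] at this
  refine ⟨N.map (stabilizer G P).subtype, ?_, Subgroup.map_subtype_le _, ?_, ?_, ?_⟩
  · ext g
    refine ⟨?_, fun hg => ⟨⟨g, hg.1⟩, (hmem _).2 hg, rfl⟩⟩
    rintro ⟨x, hx, rfl⟩
    exact (hmem x).1 hx
  · rw [Subgroup.card_map_of_injective (stabilizer G P).subtype_injective,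
      Frobenius.card_frobKernel hF, Subgroup.index]
    refine Nat.card_congr (Equiv.ofBijective
      (Quotient.lift (fun g : stabilizer G P => (⟨(g : G) • Q₀, ?_⟩ : {Q : X // Adj P Q})) ?_)
      ⟨?_, ?_⟩)
    · have := S.adj_smul (g : G) h0
      rwa [MulAction.mem_stabilizer_iff.1 g.2] at this
    · intro a b hab
      have h1 := (QuotientGroup.leftRel_apply.1 hab)
      rw [Subgroup.mem_subgroupOf] at h1
      apply Subtype.ext
      show (a : G) • Q₀ = (b : G) • Q₀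
      have h2 : ((a : G)⁻¹ * b) • Q₀ = Q₀ := h1.2
      rw [mul_smul, inv_smul_eq_iff] at h2
      exact h2.symm
    · intro a b
      induction a using Quotient.inductionOn with
      | _ a =>
        induction b using Quotient.inductionOn with
        | _ b =>
          intro e
          have e' : (a : G) • Q₀ = (b : G) • Q₀ := congrArg Subtype.val e
          refine Quotient.sound (QuotientGroup.leftRel_apply.2 ?_)
          rw [Subgroup.mem_subgroupOf]
          refine ⟨Subgroup.mul_mem _ (Subgroup.inv_mem _ a.2) b.2, ?_⟩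
          show ((a : G)⁻¹ * b) • Q₀ = Q₀
          rw [mul_smul, ← e', inv_smul_smul]
    · rintro ⟨Q, hQ⟩
      obtain ⟨g, hg, hgQ⟩ := S.trans_adj h0 hQ
      exact ⟨Quotient.mk _ ⟨g, hg⟩, Subtype.ext hgQ⟩
  · haveI : Group.IsNilpotent N := FPF.isNilpotent_frobKernel hF
    exact Group.nilpotent_of_mulEquiv (N.equivMapOfInjective _ (stabilizer G P).subtype_injective)
  · intro Q hQ g hg
    obtain ⟨g₀, hg₀, hg₀Q⟩ := S.trans_adj h0 hQ
    have hN' : N.Normal := Frobenius.frobKernel_normal hF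
    obtain ⟨⟨⟨n, hn⟩, ⟨x, hx⟩⟩, he, -⟩ := (Frobenius.frobKernel_isComplement hF).existsUnique
      ((⟨g₀, hg₀⟩ : stabilizer G P)⁻¹ * ⟨g, hg⟩ * ⟨g₀, hg₀⟩)
    have hconj := hN'.conj_mem n hn ⟨g₀, hg₀⟩
    have hx : (x : G) ∈ pst G P Q₀ := hx
    refine ⟨_, ⟨_, hconj, rfl⟩, g₀ * (x : G) * g₀⁻¹, ⟨?_, ?_⟩, ?_⟩
    · show (g₀ * (x : G) * g₀⁻¹) • P = P
      rw [mul_smul, mul_smul, inv_smul_eq_iff.2 hg₀.symm, hx.1, hg₀]
    · show (g₀ * (x : G) * g₀⁻¹) • Q = Q
      rw [mul_smul, mul_smul, inv_smul_eq_iff.2 hg₀Q.symm, hx.2, hg₀Q]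
    · have e : (n : G) * (x : G) = g₀⁻¹ * g * g₀ := congrArg Subtype.val he
      show g = g₀ * (n : G) * g₀⁻¹ * (g₀ * (x : G) * g₀⁻¹)
      calc g = g₀ * (g₀⁻¹ * g * g₀) * g₀⁻¹ := by group
        _ = g₀ * ((n : G) * x) * g₀⁻¹ := by rw [e]
        _ = _ := by group

/-- The regular normal subgroup of the stabiliser of `P` on the points adjacent to `P`. -/
noncomputable def ker (S : Data G X Adj) (P : X) : Subgroup G := (S.exists_ker P).choose

variable (S : Data G X Adj) {P Q R : X}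
include S

theorem mem_ker {g : G} : g ∈ S.ker P ↔ g • P = P ∧ (g = 1 ∨ ∀ Q, Adj P Q → g • Q ≠ Q) := by
  rw [← SetLike.mem_coe, ker, (S.exists_ker P).choose_spec.1]
  rfl

theorem ker_le : S.ker P ≤ stabilizer G P := (S.exists_ker P).choose_spec.2.1

theorem card_ker : Nat.card (S.ker P) = Nat.card {Q : X // Adj P Q} :=
  (S.exists_ker P).choose_spec.2.2.1

theorem isNilpotent_ker : Group.IsNilpotent (S.ker P) := (S.exists_ker P).choose_spec.2.2.2.1

theorem ker_fix {g : G} (hg : g ∈ S.ker P) : g • P = P := (S.mem_ker.1 hg).1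

theorem ker_moves {g : G} (hg : g ∈ S.ker P) (h : Adj P Q) (hQ : g • Q = Q) : g = 1 :=
  (S.mem_ker.1 hg).2.resolve_right fun h' => h' Q h hQ

theorem conj_ker_mem {g y : G} (hy : y ∈ S.ker P) : g * y * g⁻¹ ∈ S.ker (g • P) := by
  rw [S.mem_ker]
  refine ⟨by simp only [mul_smul, inv_smul_smul, S.ker_fix hy], ?_⟩
  by_cases h1 : y = 1
  · exact Or.inl (by rw [h1, mul_one, mul_inv_cancel])
  refine Or.inr fun Q hQ hgQ => h1 (S.ker_moves hy (Q := g⁻¹ • Q) ?_ ?_)
  · simpa using S.adj_smul g⁻¹ hQ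
  · rwa [mul_smul, mul_smul, ← eq_inv_smul_iff] at hgQ

theorem conj_ker_iff {g y : G} : g * y * g⁻¹ ∈ S.ker (g • P) ↔ y ∈ S.ker P := by
  refine ⟨fun h => ?_, S.conj_ker_mem⟩
  have := S.conj_ker_mem (g := g⁻¹) h
  rwa [inv_smul_smul, show g⁻¹ * (g * y * g⁻¹) * g⁻¹⁻¹ = y by group] at this

theorem conj_mem_ker_self {g y : G} (hg : g • P = P) (hy : y ∈ S.ker P) :
    g * y * g⁻¹ ∈ S.ker P := by
  have := S.conj_ker_mem (g := g) hy
  rwa [hg] at this

theorem exists_split (h : Adj P Q) {g : G} (hg : g • P = P) :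
    ∃ y ∈ S.ker P, ∃ x ∈ pst G P Q, g = y * x :=
  (S.exists_ker P).choose_spec.2.2.2.2 Q h g hg

/-- The kernel is transitive on the adjacent points. -/
theorem exists_ker_smul (h : Adj P Q) (h' : Adj P R) : ∃ y ∈ S.ker P, y • Q = R := by
  obtain ⟨g, hg, hgQ⟩ := S.trans_adj h h'
  obtain ⟨y, hy, x, hx, rfl⟩ := S.exists_split h hg
  rw [mul_smul, (mem_pst.1 hx).2] at hgQ
  exact ⟨y, hy, hgQ⟩

theorem ker_inj {y y' : G} (h : Adj P Q) (hy : y ∈ S.ker P) (hy' : y' ∈ S.ker P)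
    (e : y • Q = y' • Q) : y = y' := by
  have := S.ker_moves ((S.ker P).mul_mem ((S.ker P).inv_mem hy') hy) h
    (by rw [mul_smul, e, inv_smul_smul])
  exact (inv_mul_eq_one.1 this).symm

/-- A non-trivial element of the kernel commutes only with elements of the kernel. -/
theorem mem_ker_of_commute {g y : G} (hg : g • P = P) (hy : y ∈ S.ker P) (hy1 : y ≠ 1)
    (hc : Commute g y) : g ∈ S.ker P := by
  rw [S.mem_ker]
  refine ⟨hg, or_iff_not_imp_left.2 fun hg1 Q hQ hgQ => hy1 ?_⟩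
  refine S.ker_moves hy hQ (S.fix_unique hg1 hQ ?_ hg hgQ ?_).symm
  · have := S.adj_smul y hQ
    rwa [S.ker_fix hy] at this
  · rw [← mul_smul, hc.eq, mul_smul, hgQ]

end kernel

end Data

/-- The numbers of the configuration. -/
structure Nums [Finite G] (S : Data G X Adj) (k c l Λ d lam μ : ℕ) : Prop where
  card_adj : ∀ P, Nat.card {Q : X // Adj P Q} = k
  card_far : ∀ P, Nat.card {Q : X // Far Adj P Q} = l
  card_pst : ∀ {P Q}, Adj P Q → Nat.card (pst G P Q) = c
  card_pfar : ∀ {P Q}, Far Adj P Q → Nat.card (pst G P Q) = Λ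
  card_D : ∀ {P Q}, Far Adj P Q → Nat.card ↥(S.ker P ⊓ stabilizer G Q) = d
  card_lam : ∀ {P Q}, Adj P Q → common Adj P Q = lam
  card_mu : ∀ {P Q}, Far Adj P Q → common Adj P Q = μ

theorem card_image_smul (g : G) (p : X → Prop) (q : X → Prop) (h : ∀ x, q (g • x) ↔ p x) :
    Nat.card {x // q x} = Nat.card {x // p x} :=
  (Nat.card_congr ((MulAction.toPerm g).subtypeEquiv fun x => (h x).symm)).symm

theorem card_pst_smul [Finite G] (g : G) (P Q : X) :
    Nat.card (pst G (g • P) (g • Q)) = Nat.card (pst G P Q) :=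
  (Nat.card_congr ((MulAut.conj g).toEquiv.subtypeEquiv fun x => by
    simp [mem_pst, mul_smul])).symm

theorem exists_nums [Finite G] [Finite X] [Nonempty X] (S : Data G X Adj) :
    ∃ k c l Λ d lam μ : ℕ, Nums S k c l Λ d lam μ := by
  obtain ⟨A⟩ := ‹Nonempty X›
  obtain ⟨B, -, hB, -, -⟩ := S.exists_two A
  obtain ⟨F, hF⟩ := S.exists_far A
  refine ⟨Nat.card {Q : X // Adj A Q}, Nat.card (pst G A B), Nat.card {Q : X // Far Adj A Q},
    Nat.card (pst G A F), Nat.card ↥(S.ker A ⊓ stabilizer G F), common Adj A B, common Adj A F,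
    ⟨fun P => ?_, fun P => ?_, ?_, ?_, ?_, ?_, ?_⟩⟩
  · obtain ⟨g, rfl⟩ := S.trans_pt A P
    exact card_image_smul g _ _ fun x => S.adj_iff g
  · obtain ⟨g, rfl⟩ := S.trans_pt A P
    exact card_image_smul g _ _ fun x =>
      ⟨fun h => by simpa using S.far_smul g⁻¹ h, S.far_smul g⟩
  · intro P Q h
    obtain ⟨g, rfl, rfl⟩ := S.trans_adj hB h
    exact card_pst_smul g A B
  · intro P Q h
    obtain ⟨g, rfl, rfl⟩ := S.trans_far hF h
    exact card_pst_smul g A F
  · intro P Q h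
    obtain ⟨g, rfl, rfl⟩ := S.trans_far hF h
    exact (Nat.card_congr ((MulAut.conj g).toEquiv.subtypeEquiv fun x => by
      simp [S.conj_ker_iff, mul_smul])).symm
  · intro P Q h
    obtain ⟨g, rfl, rfl⟩ := S.trans_adj hB h
    exact card_image_smul g _ _ fun x => and_congr (S.adj_iff g) (S.adj_iff g)
  · intro P Q h
    obtain ⟨g, rfl, rfl⟩ := S.trans_far hF h
    exact card_image_smul g _ _ fun x => and_congr (S.adj_iff g) (S.adj_iff g)

/-- A group acting freely on a subtype divides its cardinality. -/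
theorem dvd_card_of_free [Finite X] (H : Subgroup G) (p : X → Prop)
    (hinv : ∀ g ∈ H, ∀ x, p x → p (g • x)) (hfree : ∀ g ∈ H, ∀ x, p x → g • x = x → g = 1) :
    Nat.card H ∣ Nat.card {x // p x} := by
  let Y : SubMulAction H X :=
    { carrier := {x | p x}
      smul_mem' := fun g x hx => hinv g g.2 x hx }
  have h : ∀ y : Y, MulAction.stabilizer H y = ⊥ := fun y =>
    (Subgroup.eq_bot_iff_forall _).2 fun g hg =>
      Subtype.ext (hfree g g.2 y y.2 (congrArg Subtype.val (MulAction.mem_stabilizer_iff.1 hg)))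
  rw [show Nat.card {x // p x} = Nat.card Y from rfl,
    Nat.card_congr (MulAction.selfEquivOrbitsQuotientProd h), Nat.card_prod]
  exact dvd_mul_left _ _

namespace Nums

variable [Finite G] [Finite X] {S : Data G X Adj} {k c l Λ d lam μ : ℕ}
  (N : Nums S k c l Λ d lam μ) {A P Q R : X}
include N

theorem card_ker (P : X) : Nat.card (S.ker P) = k := S.card_ker.trans (N.card_adj P)

theorem two_le_k (A : X) : 2 ≤ k := by
  obtain ⟨Q, Q', h, h', hne⟩ := S.exists_two A
  haveI : Nontrivial {Q : X // Adj A Q} := ⟨⟨⟨Q, h⟩, ⟨Q', h'⟩, fun e => hne (congrArg Subtype.val e)⟩⟩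
  rw [← N.card_adj A]
  exact Finite.one_lt_card

theorem two_le_c (A : X) : 2 ≤ c := by
  obtain ⟨Q, -, h, -, -⟩ := S.exists_two A
  rw [← N.card_pst h]
  exact (Subgroup.one_lt_card_iff_ne_bot _).2 (S.exists_fix h)

theorem l_pos (A : X) : 0 < l := by
  obtain ⟨Q, h⟩ := S.exists_far A
  rw [← N.card_far A]
  exact Finite.card_pos_iff.2 ⟨⟨Q, h⟩⟩

theorem coprime_kc (A : X) : Nat.Coprime c k := by
  obtain ⟨B, -, hB, -, -⟩ := S.exists_two A
  have hF := S.stabilizer_isFrobenius hB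
  have h := Frobenius.coprime_card_index hF
  rwa [Nat.card_congr (Subgroup.subgroupOfEquivOfLe (show pst G A B ≤ stabilizer G A from inf_le_left)).toEquiv,
    ← Frobenius.card_frobKernel hF, N.card_pst hB,
    show Nat.card (Frobenius.frobKernel hF) = k from ?_] at h
  rw [Frobenius.card_frobKernel hF, ← N.card_ker A, S.card_ker]
  rw [Subgroup.index]
  rw [show (pst G A B).subgroupOf (stabilizer G A) =
    MulAction.stabilizer (stabilizer G A) B from ?_]
  · refine Nat.card_congr ((MulAction.orbitEquivQuotientStabilizer (stabilizer G A) B).symm.trans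
      (Equiv.subtypeEquivRight fun Q => ⟨?_, fun hQ => ?_⟩))
    · rintro ⟨g, rfl⟩
      have := S.adj_smul (g : G) hB
      rwa [MulAction.mem_stabilizer_iff.1 g.2] at this
    · obtain ⟨g, hg, hgQ⟩ := S.trans_adj hB hQ
      exact ⟨⟨g, hg⟩, hgQ⟩
  · ext g
    rw [Subgroup.mem_subgroupOf, MulAction.mem_stabilizer_iff]
    exact ⟨fun h => h.2, fun h => ⟨g.2, h⟩⟩

/-- An element of a kernel fixing a further point lies in the kernel of that point. -/
theorem mem_ker_of_fix {y : G} (hy : y ∈ S.ker P) (hR : y • R = R) : y ∈ S.ker R := by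
  rw [S.mem_ker]
  refine ⟨hR, or_iff_not_imp_left.2 fun hy1 Q hQ hyQ => hy1 ?_⟩
  have h1 : orderOf y ∣ k := N.card_ker P ▸ Subgroup.orderOf_dvd_natCard _ hy
  have h2 : orderOf y ∣ c :=
    N.card_pst hQ ▸ Subgroup.orderOf_dvd_natCard _ (mem_pst.2 ⟨hR, hyQ⟩)
  rw [← orderOf_eq_one_iff]
  exact Nat.eq_one_of_dvd_coprimes (N.coprime_kc P) h2 h1

/-- The fixed points of a non-trivial kernel element are pairwise non-adjacent. -/
theorem not_adj_of_fix {y : G} (hy : y ∈ S.ker P) (hy1 : y ≠ 1) (hQ : y • Q = Q)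
    (hR : y • R = R) : ¬ Adj Q R :=
  fun h => hy1 (S.ker_moves (N.mem_ker_of_fix hy hQ) h hR)

theorem D_symm (P Q : X) : S.ker P ⊓ stabilizer G Q = S.ker Q ⊓ stabilizer G P := by
  ext y
  exact ⟨fun h => ⟨N.mem_ker_of_fix h.1 h.2, S.ker_fix h.1⟩,
    fun h => ⟨N.mem_ker_of_fix h.1 h.2, S.ker_fix h.1⟩⟩

/-- `|H| = kc`. -/
theorem card_stab (P : X) : Nat.card (stabilizer G P) = k * c := by
  obtain ⟨B, -, hB, -, -⟩ := S.exists_two P
  rw [← N.card_ker P, ← N.card_pst hB, ← Nat.card_prod]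
  refine (Nat.card_congr (Equiv.ofBijective (fun q : S.ker P × pst G P B =>
    (⟨(q.1 : G) * q.2, Subgroup.mul_mem _ (S.ker_le q.1.2) q.2.2.1⟩ : stabilizer G P))
    ⟨?_, ?_⟩)).symm
  · rintro ⟨⟨y, hy⟩, ⟨x, hx⟩⟩ ⟨⟨y', hy'⟩, ⟨x', hx'⟩⟩ e
    have e' : y * x = y' * x' := congrArg Subtype.val e
    have hyy : y = y' := S.ker_inj hB hy hy' (by
      have := congrArg (· • B) e'
      simpa [mul_smul, (mem_pst.1 hx).2, (mem_pst.1 hx').2] using this)
    subst hyy
    obtain rfl := mul_left_cancel e'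
    rfl
  · rintro ⟨g, hg⟩
    obtain ⟨y, hy, x, hx, rfl⟩ := S.exists_split hB hg
    exact ⟨⟨⟨y, hy⟩, ⟨x, hx⟩⟩, rfl⟩

/-- `l Λ = k c`. -/
theorem l_mul (P : X) : l * Λ = k * c := by
  obtain ⟨F, hF⟩ := S.exists_far P
  rw [← N.card_stab P, ← (MulAction.stabilizer (stabilizer G P) F).card_mul_index,
    mul_comm l, MulAction.index_stabilizer]
  congr 1
  · rw [← N.card_pfar hF]
    refine Nat.card_congr ((Subgroup.subgroupOfEquivOfLe (show pst G P F ≤ stabilizer G P from inf_le_left)).toEquiv.symm.trans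
      (Equiv.subtypeEquivRight fun g => ?_))
    rw [Subgroup.mem_subgroupOf, MulAction.mem_stabilizer_iff]
    exact ⟨fun h => h.2, fun h => ⟨g.2, h⟩⟩
  · rw [← N.card_far P, ← Nat.card_coe_set_eq]
    refine Nat.card_congr (Equiv.subtypeEquivRight fun Q => ⟨fun hQ => ?_, ?_⟩)
    · obtain ⟨g, hg, hgQ⟩ := S.trans_far hF hQ
      exact ⟨⟨g, hg⟩, hgQ⟩
    · rintro ⟨g, rfl⟩
      have := S.far_smul (g : G) hF
      rwa [MulAction.mem_stabilizer_iff.1 g.2] at this

/-- `|G| = v k c`. -/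
theorem card_G [Nonempty X] : Nat.card G = Nat.card X * (k * c) := by
  obtain ⟨A⟩ := ‹Nonempty X›
  haveI : MulAction.IsPretransitive G X := ⟨S.trans_pt⟩
  rw [← (MulAction.stabilizer G A).index_mul_card, MulAction.index_stabilizer_of_transitive,
    N.card_stab A]

/-- `v = 1 + k + l`. -/
theorem card_X [Nonempty X] : Nat.card X = 1 + k + l := by
  classical
  obtain ⟨A⟩ := ‹Nonempty X›
  rw [← Nat.card_congr (Equiv.sumCompl (fun x : X => Adj A x ∨ x = A)), Nat.card_sum,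
    ← N.card_far A, ← N.card_adj A, add_comm 1]
  congr 1
  · rw [← Nat.card_congr (Equiv.sumCompl (fun x : {x : X // Adj A x ∨ x = A} => Adj A x.1)),
      Nat.card_sum]
    congr 1
    · exact Nat.card_congr ((Equiv.subtypeSubtypeEquivSubtypeInter _ (fun x => Adj A x)).trans
        (Equiv.subtypeEquivRight fun x => ⟨fun h => h.2, fun h => ⟨Or.inl h, h⟩⟩))
    · rw [Nat.card_eq_one_iff_unique]
      exact ⟨⟨fun a b => Subtype.ext (Subtype.ext ((a.1.2.resolve_left a.2).trans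
        (b.1.2.resolve_left b.2).symm))⟩, ⟨⟨⟨A, Or.inr rfl⟩, S.irrefl A⟩⟩⟩
  · exact Nat.card_congr (Equiv.subtypeEquivRight fun x =>
      ⟨fun h => ⟨fun e => h (Or.inr e.symm), fun e => h (Or.inl e)⟩,
        fun h => fun e => e.elim h.2 fun e' => h.1 e'.symm⟩)

theorem c_dvd_lam (A : X) : c ∣ lam := by
  obtain ⟨B, -, hB, -, -⟩ := S.exists_two A
  rw [← N.card_pst hB, ← N.card_lam hB]
  refine dvd_card_of_free (pst G A B) _ (fun g hg x hx => ?_) fun g hg x hx e =>
    S.eq_one_of_common (S.adj_ne hB) hx.1 hx.2 hg.1 hg.2 e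
  have h1 := S.adj_smul g hx.1
  have h2 := S.adj_smul g hx.2
  rw [(mem_pst.1 hg).1] at h1
  rw [(mem_pst.1 hg).2] at h2
  exact ⟨h1, h2⟩

theorem pfar_dvd_mu (A : X) : Λ ∣ μ := by
  obtain ⟨F, hF⟩ := S.exists_far A
  rw [← N.card_pfar hF, ← N.card_mu hF]
  refine dvd_card_of_free (pst G A F) _ (fun g hg x hx => ?_) fun g hg x hx e =>
    S.eq_one_of_common hF.1 hx.1 hx.2 hg.1 hg.2 e
  have h1 := S.adj_smul g hx.1
  have h2 := S.adj_smul g hx.2
  rw [(mem_pst.1 hg).1] at h1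
  rw [(mem_pst.1 hg).2] at h2
  exact ⟨h1, h2⟩

theorem c_dvd_pred (A : X) : c ∣ k - 1 := by
  classical
  obtain ⟨B, -, hB, -, -⟩ := S.exists_two A
  have h := dvd_card_of_free (pst G A B) (fun x => Adj A x ∧ x ≠ B) (fun g hg x hx => ⟨?_, ?_⟩)
    fun g hg x hx e => ?_
  · rw [N.card_pst hB] at h
    convert h using 1
    rw [← N.card_adj A, ← Nat.card_congr (Equiv.sumCompl (fun x : {x // Adj A x} => x.1 ≠ B)),
      Nat.card_sum, Nat.card_congr (Equiv.subtypeSubtypeEquivSubtypeInter (Adj A) (fun x => x ≠ B))]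
    haveI : Subsingleton {x : {x // Adj A x} // ¬ x.1 ≠ B} := ⟨fun a b =>
      Subtype.ext (Subtype.ext ((not_not.1 a.2).trans (not_not.1 b.2).symm))⟩
    haveI : Nonempty {x : {x // Adj A x} // ¬ x.1 ≠ B} := ⟨⟨⟨B, hB⟩, fun e => e rfl⟩⟩
    rw [Nat.card_unique (α := {x : {x // Adj A x} // ¬ x.1 ≠ B}), Nat.add_sub_cancel]
  · have := S.adj_smul g hx.1
    rwa [(mem_pst.1 hg).1] at this
  · exact fun e => hx.2 (MulAction.injective g (e.trans (mem_pst.1 hg).2.symm))
  · exact S.frob hB hx.1 hx.2.symm hg.1 hg.2 e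

/-- Adjacent `A`, `Q`: the neighbours of `Q` far from `A`. -/
theorem card_adj_far (h : Adj A Q) :
    Nat.card {R : X // Adj Q R ∧ Far Adj A R} + lam + 1 = k := by
  classical
  rw [← N.card_adj Q, ← N.card_lam h,
    ← Nat.card_congr (Equiv.sumCompl (fun R : {R : X // Adj Q R} => Far Adj A R.1)), Nat.card_sum,
    add_assoc]
  congr 1
  · exact Nat.card_congr (Equiv.subtypeSubtypeEquivSubtypeInter _ _).symm
  · rw [← Nat.card_congr (Equiv.sumCompl
      (fun R : {R : {R : X // Adj Q R} // ¬ Far Adj A R.1} => R.1.1 ≠ A)), Nat.card_sum]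
    congr 1
    · refine Nat.card_congr ⟨fun R => ⟨⟨⟨R.1, S.symm R.2.2⟩, fun e => e.2 R.2.1⟩, (S.adj_ne R.2.1).symm⟩,
        fun R => ⟨R.1.1.1, ?_, S.symm R.1.1.2⟩, fun R => rfl, fun R => rfl⟩
      by_contra hc
      exact R.1.2 ⟨fun e => R.2 e.symm, hc⟩
    · rw [eq_comm, Nat.card_eq_one_iff_unique]
      refine ⟨⟨fun a b => Subtype.ext (Subtype.ext (Subtype.ext ?_))⟩,
        ⟨⟨⟨⟨A, S.symm h⟩, fun e => e.1 rfl⟩, fun e => e rfl⟩⟩⟩
      exact (not_not.1 a.2).trans (not_not.1 b.2).symm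

/-- `k (k - 1 - lam) = l μ`. -/
theorem edge_count (A : X) : k * (k - 1 - lam) = l * μ := by
  classical
  haveI := Fintype.ofFinite {Q : X // Adj A Q}
  haveI := Fintype.ofFinite {R : X // Far Adj A R}
  have e : (Σ Q : {Q : X // Adj A Q}, {R : X // Adj Q.1 R ∧ Far Adj A R}) ≃
      (Σ R : {R : X // Far Adj A R}, {Q : X // Adj A Q ∧ Adj Q R.1}) :=
    ⟨fun p => ⟨⟨p.2.1, p.2.2.2⟩, ⟨p.1.1, p.1.2, p.2.2.1⟩⟩,
      fun p => ⟨⟨p.2.1, p.2.2.1⟩, ⟨p.1.1, p.2.2.2, p.1.2⟩⟩, fun p => rfl, fun p => rfl⟩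
  have h := Nat.card_congr e
  rw [Nat.card_sigma, Nat.card_sigma] at h
  have h1 : ∀ Q : {Q : X // Adj A Q}, Nat.card {R : X // Adj Q.1 R ∧ Far Adj A R} = k - 1 - lam :=
    fun Q => by have := N.card_adj_far Q.2; omega
  have h2 : ∀ R : {R : X // Far Adj A R}, Nat.card {Q : X // Adj A Q ∧ Adj Q R.1} = μ :=
    fun R => N.card_mu R.2
  rw [Finset.sum_congr rfl (fun Q _ => h1 Q), Finset.sum_congr rfl (fun R _ => h2 R),
    Finset.sum_const, Finset.sum_const, Finset.card_univ, Finset.card_univ,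
    Fintype.card_eq_nat_card, Fintype.card_eq_nat_card, smul_eq_mul, smul_eq_mul, N.card_adj,
    N.card_far] at h
  exact h

theorem mu_pos (A : X) : 0 < μ := by
  by_contra h0
  apply S.not_adj_trans
  intro P Q R hQ hR
  rcases Data.cases3 (Adj := Adj) Q R with h | h | h
  · exact Or.inl h
  · exact Or.inr h
  · exfalso
    have := N.card_mu h
    rw [common, show μ = 0 by omega, Nat.card_eq_zero] at this
    rcases this with h' | h'
    · exact h'.false ⟨P, S.symm hQ, hR⟩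
    · exact not_finite_iff_infinite.2 h' inferInstance

theorem mu_lt (A : X) : μ < k := by
  obtain ⟨F, hF⟩ := S.exists_far A
  have hle : μ ≤ k := by
    rw [← N.card_mu hF, ← N.card_adj A]
    exact Nat.card_le_card_of_injective (fun x => (⟨x.1, x.2.1⟩ : {Q // Adj A Q}))
      fun x y e => Subtype.ext (congrArg Subtype.val e :)
  refine lt_of_le_of_ne hle fun e => S.not_far_trans fun P Q R hQ hR => ?_
  have key : ∀ {Q}, Far Adj P Q → ∀ x, Adj P x → Adj x Q := by
    intro Q hQ x hx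
    haveI := Fintype.ofFinite {Q : X // Adj P Q}
    have hbij := (Nat.bijective_iff_injective_and_card
      (f := fun x : {x // Adj P x ∧ Adj x Q} => (⟨x.1, x.2.1⟩ : {x // Adj P x}))).2
      ⟨fun a b e' => Subtype.ext (congrArg Subtype.val e' :),
        by rw [N.card_adj P, ← e]; exact N.card_mu hQ⟩
    obtain ⟨⟨y, hy⟩, hy'⟩ := hbij.2 ⟨x, hx⟩
    obtain rfl : y = x := congrArg Subtype.val hy'
    exact hy.2
  rcases Data.cases3 (Adj := Adj) Q R with h | h | h
  · exact Or.inl h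
  · exfalso
    -- `Q` has the same neighbours as `P`, so `R` would be adjacent to `P`
    have hbij := (Nat.bijective_iff_injective_and_card
      (f := fun x : {x // Adj P x} => (⟨x.1, S.symm (key hQ x x.2)⟩ : {x // Adj Q x}))).2
      ⟨fun a b e' => Subtype.ext (congrArg Subtype.val e' :), by rw [N.card_adj, N.card_adj]⟩
    obtain ⟨⟨y, hy⟩, hy'⟩ := hbij.2 ⟨R, h⟩
    obtain rfl : y = R := congrArg Subtype.val hy'
    exact hR.2 hy
  · exact Or.inr h

/-- Adjacent far points give trivially meeting kernels. -/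
theorem D_inf (hQR : Adj Q R) :
    (S.ker P ⊓ stabilizer G Q) ⊓ (S.ker P ⊓ stabilizer G R) = ⊥ := by
  rw [Subgroup.eq_bot_iff_forall]
  rintro y ⟨⟨hy, hQ⟩, -, hR⟩
  by_contra h1
  exact N.not_adj_of_fix hy h1 hQ hR hQR

theorem exists_edge_far (A : X) : ∃ P Q R, Far Adj P Q ∧ Far Adj P R ∧ Adj Q R := by
  by_contra h
  push Not at h
  refine S.not_far_trans fun P Q R hQ hR => ?_
  exact or_iff_not_imp_left.2 fun hne => ⟨hne, h P Q R hQ hR⟩

theorem d_sq_le (A : X) : d * d ≤ k := by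
  obtain ⟨P, Q, R, hQ, hR, hQR⟩ := N.exists_edge_far A
  nth_rewrite 1 [← N.card_D hQ]
  rw [← N.card_D hR, ← N.card_ker P, ← Nat.card_prod]
  refine Nat.card_le_card_of_injective
    (fun q => (⟨(q.1 : G) * q.2, (S.ker P).mul_mem q.1.2.1 q.2.2.1⟩ : S.ker P)) fun p q e => ?_
  exact Subgroup.mul_injective_of_disjoint (disjoint_iff.2 (N.D_inf hQR))
    (congrArg Subtype.val e)

theorem d_dvd_k (A : X) : d ∣ k := by
  obtain ⟨F, hF⟩ := S.exists_far A
  rw [← N.card_D hF, ← N.card_ker A]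
  exact Subgroup.card_dvd_of_le inf_le_left

theorem d_dvd_pfar (A : X) : d ∣ Λ := by
  obtain ⟨F, hF⟩ := S.exists_far A
  rw [← N.card_D hF, ← N.card_pfar hF]
  exact Subgroup.card_dvd_of_le (inf_le_inf_right _ S.ker_le)

end Nums

end Cfsg.Agent.RankThreeFrob
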