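/-
Rank three actions with a Frobenius suborbit: integrality of the eigenvalues of the graph.

Main results (namespace `Cfsg.Agent.RankThreeFrob`):
* `Nums.exists_trace` : the multiplicity of an eigenvalue on the fixed vectors of a subgroup
* `Nums.exists_roots` : the eigenvalues are integers unless `2 k + (v - 1) (lam - μ) = 0`
* `Nums.exists_mult`, `Nums.exists_trace_int` : the two corollaries used later
-/
import Cfsg.Agent.Lib.RankThreeFrob.Setup
import Mathlib.LinearAlgebra.Trace
import Mathlib.LinearAlgebra.Projection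

set_option autoImplicit false
set_option linter.style.haveILetI false
set_option linter.unusedSectionVars false

namespace Cfsg.Agent.RankThreeFrob

open MulAction

/-- The trace of an idempotent real matrix is a natural number. -/
theorem exists_nat_trace {m : Type*} [Fintype m] [DecidableEq m] (A : Matrix m m ℝ)
    (h : A * A = A) : ∃ n : ℕ, Matrix.trace A = n := by
  have h' : IsIdempotentElem (Matrix.toLin' A) := by
    rw [IsIdempotentElem, Module.End.mul_eq_comp, ← Matrix.toLin'_mul, h]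
  have h2 := (LinearMap.IsIdempotentElem.isProj_range _ h').trace
  rw [Matrix.trace_toLin'_eq] at h2
  exact ⟨_, h2⟩

variable {G X : Type*} [Group G] [MulAction G X] [Finite G] [Finite X] {Adj : X → X → Prop}
  {S : Data G X Adj} {k c l Λ d lam μ : ℕ}

namespace Nums

variable (N : Nums S k c l Λ d lam μ)
include N

/-- The multiplicity of the eigenvalue `s` on the vectors fixed by the subgroup `K`. -/
theorem exists_trace [Nonempty X] (K : Subgroup G) [Fintype K] {r s : ℝ}
    (hsum : r + s = (lam : ℝ) - μ) (hprod : r * s = (μ : ℝ) - k) (hne : r ≠ s) :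
    ∃ n : ℕ, (Nat.card K : ℝ) * (r - s) * n = ∑ y : K,
      (r * Nat.card {x : X // (y : G) • x = x} - Nat.card {x : X // Adj x ((y : G) • x)}
        + ((k : ℝ) - r)) := by
  classical
  obtain ⟨A⟩ := ‹Nonempty X›
  haveI := Fintype.ofFinite X
  set v : ℝ := (Fintype.card X : ℝ) with hvdef
  have hv0 : v ≠ 0 := Nat.cast_ne_zero.2 Fintype.card_ne_zero
  set τ : ℝ := ((k : ℝ) - r) / v with hτ
  have htv : τ * v = (k : ℝ) - r := div_mul_cancel₀ _ hv0
  have hX : v = 1 + k + l := by
    rw [hvdef, Fintype.card_eq_nat_card, N.card_X]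
    push_cast
    ring
  have hedge : (k : ℝ) * (k - 1 - lam) = l * μ := by
    obtain ⟨B, -, hB, -, -⟩ := S.exists_two A
    have hle : 1 + lam ≤ k := by have := N.card_adj_far hB; omega
    have h := congrArg (Nat.cast (R := ℝ)) (N.edge_count A)
    rw [Nat.sub_sub, Nat.cast_mul, Nat.cast_mul, Nat.cast_sub hle] at h
    push_cast at h
    linarith
  have hτμ : (μ : ℝ) = τ * (k - s) := by
    rw [hτ, div_mul_eq_mul_div, eq_div_iff hv0, hX]
    linear_combination (-(k : ℝ)) * (-hsum) - hprod - hedge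
  let M : X → X → ℝ := fun x w => if Adj x w then 1 else 0
  let p : X → X → ℝ := fun x w => (if x = w then r else 0) - M x w + τ
  have hrow : ∀ x, ∑ w, M x w = k := by
    intro x
    rw [Finset.sum_boole, ← Fintype.card_subtype, Fintype.card_eq_nat_card, N.card_adj x]
  have hcol : ∀ z, ∑ w, M w z = k := by
    intro z
    rw [Finset.sum_boole, ← Fintype.card_subtype, Fintype.card_eq_nat_card, ← N.card_adj z,
      Nat.card_congr (Equiv.subtypeEquivRight fun w => ⟨S.symm, S.symm⟩)]
  have hcom : ∀ x z, ∑ w, M x w * M w z = (common Adj x z : ℝ) := by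
    intro x z
    rw [common, ← Fintype.card_eq_nat_card, Fintype.card_subtype, ← Finset.sum_boole]
    exact Finset.sum_congr rfl fun w _ => by
      by_cases h1 : Adj x w <;> by_cases h2 : Adj w z <;> simp [M, h1, h2]
  have hp0 : ∀ z, ∑ w, p w z = 0 := by
    intro z
    simp only [p, Finset.sum_add_distrib, Finset.sum_sub_distrib, Finset.sum_ite_eq',
      Finset.mem_univ, if_true, hcol, Finset.sum_const, Finset.card_univ, nsmul_eq_mul]
    linarith [htv, mul_comm τ v]
  have hMp : ∀ x z, ∑ w, M x w * p w z = r * M x z - common Adj x z + τ * k := by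
    intro x z
    simp only [p, mul_add, mul_sub, Finset.sum_add_distrib, Finset.sum_sub_distrib, mul_ite,
      mul_zero, Finset.sum_ite_eq', Finset.mem_univ, if_true, hcom, ← Finset.sum_mul, hrow]
    ring
  have hpp : ∀ x z, ∑ w, p x w * p w z = (r - s) * p x z := by
    intro x z
    have e : ∑ w, p x w * p w z = r * p x z - ∑ w, M x w * p w z + τ * ∑ w, p w z := by
      rw [Finset.mul_sum, ← Finset.sum_erase_add _ _ (Finset.mem_univ x)]
      simp only [p, add_mul, sub_mul, ite_mul, zero_mul, Finset.sum_add_distrib,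
        Finset.sum_sub_distrib]
      rw [← Finset.sum_erase_add Finset.univ (fun w => M x w * p w z) (Finset.mem_univ x),
        ← Finset.sum_erase_add Finset.univ (fun w => τ * p w z) (Finset.mem_univ x)]
      rw [Finset.sum_eq_zero (f := fun w => if x = w then r * _ else 0)
        (fun w hw => if_neg (Finset.ne_of_mem_erase hw).symm)]
      simp only [p, if_true]
      ring
    rw [e, hp0, hMp]
    rcases Data.cases3 (Adj := Adj) x z with h | h | h
    · subst h
      have : (common Adj x x : ℝ) = k := by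
        rw [← N.card_adj x]
        exact_mod_cast Nat.card_congr (Equiv.subtypeEquivRight
          (p := fun w => Adj x w ∧ Adj w x) (q := fun w => Adj x w) fun w =>
          ⟨fun h => h.1, fun h => ⟨h, S.symm h⟩⟩)
      simp only [p, M, if_true, if_neg (S.irrefl x), this]
      linear_combination hτμ + hprod
    · simp only [p, M, if_neg (S.adj_ne h), if_pos h, N.card_lam h]
      linear_combination hτμ - hsum
    · simp only [p, M, if_neg h.1, if_neg h.2, N.card_mu h]
      linear_combination hτμ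
  have hinv : ∀ (g : G) x z, p (g • x) (g • z) = p x z := by
    intro g x z
    simp only [p, M, (MulAction.injective g).eq_iff, S.adj_iff]
  have hK : (Nat.card K : ℝ) ≠ 0 := Nat.cast_ne_zero.2 Nat.card_pos.ne'
  have hrs : r - s ≠ 0 := sub_ne_zero.2 hne
  obtain ⟨n, hn⟩ := exists_nat_trace
    (((Nat.card K : ℝ) * (r - s))⁻¹ • Matrix.of fun x z => ∑ y : K, p x ((y : G) • z)) (by
    rw [Matrix.smul_mul, Matrix.mul_smul, smul_smul]
    ext x z
    rw [Matrix.smul_apply, Matrix.smul_apply, Matrix.mul_apply]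
    simp only [Matrix.of_apply, smul_eq_mul]
    have key : ∑ w, (∑ y : K, p x ((y : G) • w)) * ∑ y' : K, p w ((y' : G) • z) =
        (Nat.card K : ℝ) * (r - s) * ∑ y : K, p x ((y : G) • z) := by
      rw [Finset.sum_congr rfl fun w _ => Finset.sum_mul_sum Finset.univ Finset.univ
        (fun y : K => p x ((y : G) • w)) (fun y' : K => p w ((y' : G) • z)), Finset.sum_comm]
      have e : ∀ y : K, ∑ w, ∑ y' : K, p x ((y : G) • w) * p w ((y' : G) • z) =
          (r - s) * ∑ y' : K, p x ((y' : G) • z) := by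
        intro y
        rw [Finset.sum_comm, Finset.mul_sum]
        rw [← Equiv.sum_comp (Equiv.mulLeft y) (fun y' : K => (r - s) * p x ((y' : G) • z))]
        refine Finset.sum_congr rfl fun y' _ => ?_
        rw [← hpp]
        refine Fintype.sum_equiv (MulAction.toPerm (y : G)) _ _ fun w => ?_
        simp only [MulAction.toPerm_apply, Equiv.coe_mulLeft, Subgroup.coe_mul, mul_smul, hinv]
      rw [Finset.sum_congr rfl fun y _ => e y, Finset.sum_const, Finset.card_univ, nsmul_eq_mul,
        Fintype.card_eq_nat_card, mul_assoc]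
    rw [key]
    field_simp)
  refine ⟨n, ?_⟩
  rw [← hn, Matrix.trace_smul, smul_eq_mul, mul_inv_cancel_left₀ (mul_ne_zero hK hrs),
    Matrix.trace]
  simp only [Matrix.diag_apply, Matrix.of_apply]
  rw [Finset.sum_comm]
  refine Finset.sum_congr rfl fun y _ => ?_
  simp only [p, M, Finset.sum_add_distrib, Finset.sum_sub_distrib, Finset.sum_const,
    Finset.card_univ, nsmul_eq_mul, Finset.sum_boole]
  rw [← Finset.sum_filter, Finset.sum_const, nsmul_eq_mul,
    show ((Fintype.card X : ℝ) * τ) = k - r by rw [← hvdef]; linarith [htv, mul_comm τ v],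
    ← Fintype.card_subtype, ← Fintype.card_subtype, Fintype.card_eq_nat_card,
    Fintype.card_eq_nat_card, Nat.card_congr (Equiv.subtypeEquivRight fun x =>
      (eq_comm : x = (y : G) • x ↔ (y : G) • x = x)), mul_comm r]

/-- The eigenvalues are integers unless the multiplicities are equal. -/
theorem exists_roots [Nonempty X]
    (hR : (2 * k : ℤ) + ((Nat.card X : ℤ) - 1) * ((lam : ℤ) - μ) ≠ 0) :
    ∃ r s : ℤ, r + s = (lam : ℤ) - μ ∧ r * s = (μ : ℤ) - k ∧ 1 ≤ r ∧ s ≤ -1 := by
  classical
  obtain ⟨A⟩ := ‹Nonempty X›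
  haveI := Fintype.ofFinite (⊥ : Subgroup G)
  set Δ : ℤ := ((lam : ℤ) - μ) ^ 2 + 4 * ((k : ℤ) - μ) with hΔ
  have hμ := N.mu_lt A
  have hpos : 0 < Δ := by have := sq_nonneg ((lam : ℤ) - μ); omega
  set q := Real.sqrt (Δ : ℝ) with hqdef
  have hqpos : 0 < q := Real.sqrt_pos.2 (by exact_mod_cast hpos)
  have hq : q ^ 2 = (Δ : ℝ) := Real.sq_sqrt (by exact_mod_cast hpos.le)
  have hqΔ : q ^ 2 = ((lam : ℝ) - μ) ^ 2 + 4 * ((k : ℝ) - μ) := by
    rw [hq, hΔ]; push_cast; ring
  obtain ⟨n, hn⟩ := N.exists_trace ⊥ (r := ((lam : ℝ) - μ + q) / 2)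
    (s := ((lam : ℝ) - μ - q) / 2) (by ring) (by linear_combination (-1/4 : ℝ) * hqΔ)
    (by intro e; linarith)
  simp only [Subgroup.card_bot, Nat.cast_one, one_mul] at hn
  rw [Fintype.sum_subsingleton _ (1 : (⊥ : Subgroup G))] at hn
  have h1 : Nat.card {x : X // ((1 : (⊥ : Subgroup G)) : G) • x = x} = Nat.card X :=
    Nat.card_congr (Equiv.subtypeUnivEquiv fun x => by simp)
  have h2 : Nat.card {x : X // Adj x (((1 : (⊥ : Subgroup G)) : G) • x)} = 0 := by
    haveI : IsEmpty {x : X // Adj x (((1 : (⊥ : Subgroup G)) : G) • x)} :=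
      ⟨fun x => S.irrefl x.1 (by simpa using x.2)⟩
    exact Nat.card_of_isEmpty
  rw [h1, h2, Nat.cast_zero, sub_zero] at hn
  set m : ℤ := 2 * (n : ℤ) - ((Nat.card X : ℤ) - 1) with hm
  set R : ℤ := (2 * k : ℤ) + ((Nat.card X : ℤ) - 1) * ((lam : ℤ) - μ) with hRdef
  have hmq : (m : ℝ) * q = (R : ℝ) := by
    rw [hm, hRdef]
    push_cast
    linear_combination 2 * hn
  have hm2 : m ^ 2 * Δ = R ^ 2 := by
    have : ((m ^ 2 * Δ : ℤ) : ℝ) = ((R ^ 2 : ℤ) : ℝ) := by
      push_cast
      rw [← hmq, ← hq]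
      ring
    exact_mod_cast this
  have hm0 : m ≠ 0 := fun e => hR (by
    rw [e, zero_pow two_ne_zero, zero_mul] at hm2
    exact pow_eq_zero_iff two_ne_zero |>.1 hm2.symm)
  obtain ⟨t, ht⟩ : m ∣ R := (Int.pow_dvd_pow_iff two_ne_zero).1 ⟨Δ, hm2.symm⟩
  have ht2 : |t| ^ 2 = Δ := by
    rw [sq_abs]
    refine mul_left_cancel₀ (pow_ne_zero 2 hm0) ?_
    rw [hm2, ht]
    ring
  have hev : Even ((lam : ℤ) - μ + |t|) := by
    have : Even (((lam : ℤ) - μ + |t|) ^ 2) := by
      refine ⟨((lam : ℤ) - μ) ^ 2 + 2 * ((k : ℤ) - μ) + ((lam : ℤ) - μ) * |t|, ?_⟩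
      linear_combination ht2 + hΔ
    exact (Int.even_pow' two_ne_zero).1 this
  obtain ⟨r, hr⟩ := hev
  have hprod : r * ((lam : ℤ) - μ - r) = (μ : ℤ) - k := by
    have h := ht2
    rw [hΔ, show |t| = 2 * r - ((lam : ℤ) - μ) by omega] at h
    linarith
  refine ⟨r, (lam : ℤ) - μ - r, by ring, hprod, ?_, ?_⟩
  · by_contra hh
    have ht0 := abs_nonneg t
    have h1 : r ≤ 0 := by omega
    have h2 : (lam : ℤ) - μ - r ≤ 0 := by omega
    nlinarith
  · by_contra hh
    have h2 : 0 ≤ (lam : ℤ) - μ - r := by omega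
    have ht0 := abs_nonneg t
    have h1 : 0 ≤ r := by omega
    nlinarith

/-- The multiplicity on the vectors fixed by `K`, for integral eigenvalues. -/
theorem exists_trace_int [Nonempty X] (K : Subgroup G) [Fintype K] {r s : ℤ}
    (hsum : r + s = (lam : ℤ) - μ) (hprod : r * s = (μ : ℤ) - k) (hne : r ≠ s) :
    ∃ n : ℕ, (Nat.card K : ℤ) * (r - s) * n = ∑ y : K,
      (r * Nat.card {x : X // (y : G) • x = x} - Nat.card {x : X // Adj x ((y : G) • x)}
        + ((k : ℤ) - r)) := by
  obtain ⟨n, hn⟩ := N.exists_trace K (r := (r : ℝ)) (s := (s : ℝ))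
    (by exact_mod_cast hsum) (by exact_mod_cast hprod) (by exact_mod_cast hne)
  exact ⟨n, by exact_mod_cast hn⟩

/-- The multiplicity of the eigenvalue `s`. -/
theorem exists_mult [Nonempty X] {r s : ℤ}
    (hsum : r + s = (lam : ℤ) - μ) (hprod : r * s = (μ : ℤ) - k) (hne : r ≠ s) :
    ∃ n : ℕ, (r - s) * n = (k : ℤ) + r * ((Nat.card X : ℤ) - 1) := by
  classical
  haveI := Fintype.ofFinite (⊥ : Subgroup G)
  obtain ⟨n, hn⟩ := N.exists_trace_int ⊥ hsum hprod hne
  refine ⟨n, ?_⟩
  simp only [Subgroup.card_bot, Nat.cast_one, one_mul] at hn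
  rw [Fintype.sum_subsingleton _ (1 : (⊥ : Subgroup G))] at hn
  have h1 : Nat.card {x : X // ((1 : (⊥ : Subgroup G)) : G) • x = x} = Nat.card X :=
    Nat.card_congr (Equiv.subtypeUnivEquiv fun x => by simp)
  have h2 : Nat.card {x : X // Adj x (((1 : (⊥ : Subgroup G)) : G) • x)} = 0 := by
    haveI : IsEmpty {x : X // Adj x (((1 : (⊥ : Subgroup G)) : G) • x)} :=
      ⟨fun x => S.irrefl x.1 (by simpa using x.2)⟩
    exact Nat.card_of_isEmpty
  rw [h1, h2, Nat.cast_zero, sub_zero] at hn
  linear_combination hn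

end Nums

end Cfsg.Agent.RankThreeFrob
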