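/-
Rank three actions with a Frobenius suborbit: fixed points of the involutions, and the arithmetic
they give.

Main results (namespace `Cfsg.Agent.RankThreeFrob`):
* `Nums.exists_c0` : `Λ = d c₀`, `c = e c₀`, `l d = k e`
* `Nums.fix_odd`, `Nums.fix_even` : the number of fixed points of an involution
* `Nums.exists_trace_T` : the multiplicity of an eigenvalue on the vectors fixed by a kernel
* `Nums.exists_delta` : `f ι = lam + e δ` with `c₀ ∣ δ` when `d = 1`
-/
import Cfsg.Agent.Lib.RankThreeFrob.EvenBasic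
import Cfsg.Agent.Lib.RankThreeFrob.Trace

set_option autoImplicit false
set_option linter.style.haveILetI false
set_option linter.unusedSectionVars false

namespace Cfsg.Agent.RankThreeFrob

open MulAction

variable {G X : Type*} [Group G] [MulAction G X] [Finite G] [Finite X] {Adj : X → X → Prop}
  {S : Data G X Adj} {k c l Λ d lam μ : ℕ}

namespace Nums

variable (N : Nums S k c l Λ d lam μ) {A B P Q Y : X}
include N

theorem exists_c0 (A : X) : ∃ c₀ e : ℕ, Λ = d * c₀ ∧ c = e * c₀ ∧ l * d = k * e ∧ 0 < c₀ ∧ 0 < e := by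
  obtain ⟨Y, hY⟩ := S.exists_far A
  set H := stabilizer G A
  set L := pst G A Y
  have hLH : L ≤ H := inf_le_left
  haveI : ((S.ker A).subgroupOf H).Normal := ⟨fun y hy g => by
    rw [Subgroup.mem_subgroupOf] at hy ⊢
    simpa using S.conj_mem_ker_self g.2 hy⟩
  have hidx : ((S.ker A).subgroupOf H).index = c := by
    have h1 := ((S.ker A).subgroupOf H).index_mul_card
    rw [Nat.card_congr (Subgroup.subgroupOfEquivOfLe S.ker_le).toEquiv, N.card_ker A,
      N.card_stab A, mul_comm k] at h1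
    exact Nat.eq_of_mul_eq_mul_right (by have := N.two_le_k A; omega) h1
  have h2 := Subgroup.relIndex_dvd_index_of_normal ((S.ker A).subgroupOf H) (L.subgroupOf H)
  rw [Subgroup.relIndex_subgroupOf hLH, hidx] at h2
  have hKL : S.ker A ⊓ L = S.ker A ⊓ stabilizer G Y := by
    rw [show L = stabilizer G A ⊓ stabilizer G Y from rfl, ← inf_assoc, inf_eq_left.2 S.ker_le]
  have hL : Λ = d * (S.ker A).relIndex L := by
    have h3 := Subgroup.relIndex_mul_relIndex ⊥ (S.ker A ⊓ L) L bot_le inf_le_right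
    rw [Subgroup.relIndex_bot_left, Subgroup.relIndex_bot_left, Subgroup.inf_relIndex_right,
      N.card_pfar hY] at h3
    rw [← h3, hKL, N.card_D hY]
  obtain ⟨e, he⟩ := h2
  set c₀ := (S.ker A).relIndex L
  have hc := N.two_le_c A
  have hΛ : 0 < Λ := N.card_pfar hY ▸ Nat.card_pos
  have hc₀ : 0 < c₀ := Nat.pos_of_ne_zero fun h => by rw [hL, h, mul_zero] at hΛ; omega
  refine ⟨c₀, e, hL, by rw [he, mul_comm], ?_, hc₀, Nat.pos_of_ne_zero fun h => by
    rw [he, h, mul_zero] at hc; omega⟩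
  have h4 := N.l_mul A
  rw [hL, he] at h4
  exact Nat.eq_of_mul_eq_mul_right hc₀ (by rw [mul_assoc, h4]; ring)

/-- A stabiliser of two far points moves each non-trivial element of `D` round an orbit of
length `c₀`. -/
theorem c0_dvd_pred (hA : Far Adj A Y) (hd : d ≠ 1) {c₀ : ℕ} (hΛ : Λ = d * c₀)
    (hcomm : ∀ y ∈ S.ker A, ∀ y' ∈ S.ker A, Commute y y') : c₀ ∣ d - 1 := by
  classical
  set D := S.ker A ⊓ stabilizer G Y with hD
  set L := pst G A Y
  haveI : Finite (ConjAct G) := Finite.of_equiv G ConjAct.toConjAct.toEquiv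
  let L' : Subgroup (ConjAct G) := L.map (ConjAct.toConjAct (G := G)).toMonoidHom
  have hmem : ∀ g : ConjAct G, g ∈ L' ↔ ConjAct.ofConjAct g ∈ L := fun g =>
    ⟨fun ⟨x, hx, e⟩ => by subst e; simpa using hx, fun h => ⟨_, h, by simp⟩⟩
  have hcard : Nat.card L' = Λ := by
    rw [Subgroup.card_map_of_injective (f := (ConjAct.toConjAct (G := G)).toMonoidHom)
      ConjAct.toConjAct.injective, N.card_pfar hA]
  have hdl : ∀ g ∈ L, ∀ e ∈ D, g * e * g⁻¹ ∈ D := fun g hg e he =>
    ⟨S.conj_mem_ker_self hg.1 he.1, by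
      show (g * e * g⁻¹) • Y = Y
      rw [mul_smul, mul_smul, inv_smul_eq_iff.2 hg.2.symm, he.2, hg.2]⟩
  have key := card_dvd_card_mul_of_stab L' (fun x : G => x ∈ D ∧ x ≠ 1) d
    (fun g hg x hx => by
      rw [ConjAct.smul_def]
      refine ⟨hdl _ ((hmem g).1 hg) x hx.1, fun h => hx.2 ?_⟩
      exact mul_left_cancel (a := ConjAct.ofConjAct g) (by
        rw [mul_one]; exact mul_inv_eq_one.1 h))
    (fun x hx => by
      rw [← N.card_D hA]
      refine Nat.card_congr ⟨fun g => ⟨ConjAct.ofConjAct g.1, ?_⟩,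
        fun g => ⟨ConjAct.toConjAct g.1, ?_⟩, fun g => rfl, fun g => rfl⟩
      · have h1 : ConjAct.ofConjAct g.1 ∈ L := (hmem _).1 g.2.1
        have h2 : g.1 • x = x := g.2.2
        rw [ConjAct.smul_def] at h2
        exact ⟨S.mem_ker_of_commute h1.1 hx.1.1 hx.2 (mul_inv_eq_iff_eq_mul.1 h2), h1.2⟩
      · refine ⟨(hmem _).2 ?_, ?_⟩
        · exact ⟨S.ker_fix g.2.1, g.2.2⟩
        · show ConjAct.toConjAct g.1 • x = x
          rw [ConjAct.toConjAct_smul, (hcomm _ g.2.1 _ hx.1.1).eq, mul_inv_cancel_right])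
  rw [hcard, hΛ] at key
  have hDn : Nat.card {x : G // x ∈ D ∧ x ≠ 1} = d - 1 := by
    have h := Nat.card_congr (Equiv.sumCompl fun x : D => (x : G) ≠ 1)
    rw [Nat.card_sum, N.card_D hA,
      Nat.card_congr (Equiv.subtypeSubtypeEquivSubtypeInter (fun x => x ∈ D) (fun x => x ≠ 1))] at h
    haveI : Subsingleton {x : D // ¬ (x : G) ≠ 1} :=
      ⟨fun a b => Subtype.ext (Subtype.ext ((not_not.1 a.2).trans (not_not.1 b.2).symm))⟩
    haveI : Nonempty {x : D // ¬ (x : G) ≠ 1} := ⟨⟨1, fun e => e rfl⟩⟩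
    rw [Nat.card_unique (α := {x : D // ¬ (x : G) ≠ 1})] at h
    omega
  rw [hDn, mul_comm (d - 1) d] at key
  have hd0 : 0 < d := N.card_D hA ▸ Nat.card_pos
  exact (Nat.mul_dvd_mul_iff_left hd0).1 key

variable (hc : Even c)
include hc

theorem T_not_mem_ker {u : G} (hu : IsT X u) (hP : u • P = P) : u ∉ S.ker P := fun h => by
  obtain ⟨Q, hQ, huQ⟩ := N.exists_partner hc hu hP
  exact hu.2.1 (S.ker_moves h hQ huQ)

theorem isT_mul {u y : G} (hu : IsT X u) (hP : u • P = P) (hy : y ∈ S.ker P) :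
    IsT X (y * u) ∧ (y * u) • P = P := by
  have h := N.inverts hc hu hP hy
  have hfix : (y * u) • P = P := by rw [mul_smul, hP, S.ker_fix hy]
  refine ⟨⟨?_, fun e => N.T_not_mem_ker hc hu hP ?_, P, hfix⟩, hfix⟩
  · calc y * u * (y * u) = y * (u * y * u) := by group
      _ = 1 := by rw [h, mul_inv_cancel]
  · rw [← inv_eq_of_mul_eq_one_right e]
    exact inv_mem hy

/-- The product of two involutions fixing `P` lies in the kernel of `P`. -/
theorem mul_mem_ker {u w : G} (hu : IsT X u) (hw : IsT X w) (huP : u • P = P) (hwP : w • P = P) :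
    u * w ∈ S.ker P := by
  obtain ⟨⟨y, hy⟩, hy1⟩ := Subgroup.ne_bot_iff_exists_ne_one.1
    (show S.ker P ≠ ⊥ from fun e => by
      have := N.card_ker P
      rw [e, Subgroup.card_bot] at this
      have := N.two_le_k P
      omega)
  refine S.mem_ker_of_commute (y := y) (by rw [mul_smul, hwP, huP]) hy
    (fun e => hy1 (Subtype.ext e)) ?_
  have h1 := N.inverts hc hw hwP hy
  have h2 := N.inverts hc hu huP (inv_mem hy)
  rw [inv_inv] at h2
  show u * w * y = y * (u * w)
  calc u * w * y = u * (w * y * w) * (w * w)⁻¹ * w := by group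
    _ = u * y⁻¹ * w := by rw [h1, hw.1]; group
    _ = (u * y⁻¹ * u) * (u⁻¹ * w) := by group
    _ = y * (u * w) := by rw [h2, hu.inv_eq]

theorem exists_T_pst (hΛ : Even Λ) (h : Far Adj P Q) :
    ∃ u : G, IsT X u ∧ u • P = P ∧ u • Q = Q := by
  haveI : Fact (Nat.Prime 2) := ⟨Nat.prime_two⟩
  obtain ⟨u, hu⟩ := exists_prime_orderOf_dvd_card' (G := pst G P Q) 2
    (by rw [N.card_pfar h]; exact even_iff_two_dvd.1 hΛ)
  rw [← Subgroup.orderOf_coe] at hu
  refine ⟨u, ⟨?_, fun e => ?_, P, u.2.1⟩, u.2.1, u.2.2⟩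
  · rw [← sq, ← hu, pow_orderOf_eq_one]
  · rw [e, orderOf_one] at hu
    norm_num at hu

/-- For each point there is an involution fixing it together with `A`. -/
theorem exists_T_fix (hΛ : Even Λ) (A x : X) : ∃ u : G, IsT X u ∧ u • A = A ∧ u • x = x := by
  rcases Data.cases3 (Adj := Adj) A x with h | h | h
  · subst h
    obtain ⟨B, -, hB, -, -⟩ := S.exists_two A
    obtain ⟨⟨u, hu, hA, -, -, -⟩, -⟩ := N.exists_inv hc hB
    exact ⟨u, hu, hA, hA⟩
  · obtain ⟨⟨u, hu, hA, hx, -, -⟩, -⟩ := N.exists_inv hc h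
    exact ⟨u, hu, hA, hx⟩
  · exact N.exists_T_pst hc hΛ h

theorem card_T_pst (hΛ : Even Λ) (h : Far Adj P Q) :
    Nat.card {u : G // IsT X u ∧ u • P = P ∧ u • Q = Q} = d := by
  obtain ⟨u, hu, huP, huQ⟩ := N.exists_T_pst hc hΛ h
  rw [← N.card_D h]
  refine Nat.card_congr ⟨fun w => ⟨w.1 * u, N.mul_mem_ker hc w.2.1 hu w.2.2.1 huP, ?_⟩,
    fun y => ⟨y.1 * u, (N.isT_mul hc hu huP y.2.1).1, (N.isT_mul hc hu huP y.2.1).2, ?_⟩,
    fun w => Subtype.ext ?_, fun y => Subtype.ext ?_⟩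
  · show (w.1 * u) • Q = Q
    rw [mul_smul, huQ, w.2.2.2]
  · rw [mul_smul, huQ, y.2.2]
  · show w.1 * u * u = w.1
    rw [mul_assoc, hu.1, mul_one]
  · show y.1 * u * u = y.1
    rw [mul_assoc, hu.1, mul_one]

theorem card_T_pst_odd (hΛ : ¬ Even Λ) (h : Far Adj P Q) :
    Nat.card {u : G // IsT X u ∧ u • P = P ∧ u • Q = Q} = 0 := by
  haveI : Fact (Nat.Prime 2) := ⟨Nat.prime_two⟩
  haveI : IsEmpty {u : G // IsT X u ∧ u • P = P ∧ u • Q = Q} := ⟨fun u => hΛ (by
    have := Subgroup.orderOf_dvd_natCard (pst G P Q) (mem_pst.2 ⟨u.2.2.1, u.2.2.2⟩)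
    rw [orderOf_eq_prime (by rw [sq, u.2.1.1]) u.2.1.2.1, N.card_pfar h] at this
    exact even_iff_two_dvd.2 this)⟩
  exact Nat.card_of_isEmpty

variable {f ι ι' : ℕ} (hC : Counts S f ι ι')
include hC

/-- Double count of an involution fixing `A` and a far point fixed by it. -/
theorem fix_count [Nonempty X] {m : ℕ} (hm : ∀ {P Q : X}, Far Adj P Q →
    Nat.card {u : G // IsT X u ∧ u • P = P ∧ u • Q = Q} = m) : k * f = k * 2 + l * m := by
  classical
  obtain ⟨A⟩ := ‹Nonempty X›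
  haveI := Fintype.ofFinite X
  haveI := Fintype.ofFinite G
  have h1 : ∀ u : {u : G // IsT X u ∧ u • A = A},
      Nat.card {x : X // Far Adj A x ∧ u.1 • x = x} + 2 = f := by
    intro u
    obtain ⟨B, ⟨hB, huB⟩, huniq⟩ := N.existsUnique_partner hc u.2.1 u.2.2
    rw [← hC.card_fix u.2.1,
      ← Nat.card_congr (Equiv.sumCompl fun x : {x : X // u.1 • x = x} => Far Adj A x.1), Nat.card_sum]
    congr 1
    · exact Nat.card_congr ⟨fun x => ⟨⟨x.1, x.2.2⟩, x.2.1⟩, fun x => ⟨x.1.1, x.2, x.1.2⟩,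
        fun x => rfl, fun x => rfl⟩
    · rw [show (2 : ℕ) = ({A, B} : Finset X).card by rw [Finset.card_pair (S.adj_ne hB)],
        ← Fintype.card_coe, Fintype.card_eq_nat_card]
      refine Nat.card_congr ⟨fun x => ⟨⟨x.1, ?_⟩, ?_⟩, fun x => ⟨x.1.1, ?_⟩, fun x => rfl,
        fun x => rfl⟩
      · have := x.2
        simp only [Finset.mem_insert, Finset.mem_singleton] at this
        rcases this with h | h <;> rw [h]
        exacts [u.2.2, huB]
      · have := x.2
        simp only [Finset.mem_insert, Finset.mem_singleton] at this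
        rcases this with h | h <;> rw [h]
        exacts [fun e => e.1 rfl, fun e => e.2 hB]
      · simp only [Finset.mem_insert, Finset.mem_singleton]
        rcases Data.cases3 (Adj := Adj) A x.1.1 with h | h | h
        · exact Or.inl h.symm
        · exact Or.inr (huniq _ ⟨h, x.1.2⟩)
        · exact absurd h x.2
  have e : (Σ u : {u : G // IsT X u ∧ u • A = A}, {x : X // Far Adj A x ∧ u.1 • x = x}) ≃
      (Σ x : {x : X // Far Adj A x}, {u : G // IsT X u ∧ u • A = A ∧ u • x.1 = x.1}) :=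
    ⟨fun p => ⟨⟨p.2.1, p.2.2.1⟩, ⟨p.1.1, p.1.2.1, p.1.2.2, p.2.2.2⟩⟩,
      fun p => ⟨⟨p.2.1, p.2.2.1, p.2.2.2.1⟩, ⟨p.1.1, p.1.2, p.2.2.2.2⟩⟩, fun p => rfl,
      fun p => rfl⟩
  have h2 := Nat.card_congr e
  rw [Nat.card_sigma, Nat.card_sigma] at h2
  have h3 : k * f = k * 2 + ∑ u : {u : G // IsT X u ∧ u • A = A},
      Nat.card {x : X // Far Adj A x ∧ u.1 • x = x} := by
    rw [← N.card_T_fix hc A, ← Fintype.card_eq_nat_card, ← Finset.card_univ, ← smul_eq_mul,
      ← Finset.sum_const, ← smul_eq_mul, ← Finset.sum_const, ← Finset.sum_add_distrib]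
    exact Finset.sum_congr rfl fun u _ => by have := h1 u; omega
  rw [h3, h2, Finset.sum_congr rfl (fun x _ => hm x.2), Finset.sum_const, Finset.card_univ,
    Fintype.card_eq_nat_card, N.card_far, smul_eq_mul]

theorem fix_odd [Nonempty X] (hΛ : ¬ Even Λ) : f = 2 := by
  obtain ⟨A⟩ := ‹Nonempty X›
  have h := N.fix_count hc hC (m := 0) fun hPQ => N.card_T_pst_odd hc hΛ hPQ
  exact Nat.eq_of_mul_eq_mul_left (n := k) (by have := N.two_le_k A; omega) (by simpa using h)

theorem fix_even [Nonempty X] (hΛ : Even Λ) {e : ℕ} (he : l * d = k * e) : f = e + 2 := by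
  obtain ⟨A⟩ := ‹Nonempty X›
  have h := N.fix_count hc hC (m := d) fun hPQ => N.card_T_pst hc hΛ hPQ
  rw [he] at h
  exact Nat.eq_of_mul_eq_mul_left (n := k) (by have := N.two_le_k A; omega) (by rw [h]; ring)

omit hC in
/-- In the kernel of `A` the involutions fixing `A` and the elements of the kernel move each
point alike. -/
theorem card_reflect (hΛ : Even Λ) {z : G} (hz : IsT X z) (hzA : z • A = A) (p : X → X → Prop)
    (x : X) : Nat.card {y : S.ker A // p x ((y : G) • x)} =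
      Nat.card {y : S.ker A // p x (((y : G) * z) • x)} := by
  obtain ⟨u, hu, huA, hux⟩ := N.exists_T_fix hc hΛ A x
  have hw := N.mul_mem_ker hc hz hu hzA huA
  refine (Nat.card_congr ((Equiv.mulRight (⟨z * u, hw⟩ : S.ker A)).subtypeEquiv fun y => ?_)).symm
  show _ ↔ p x ((((y : G) * (z * u))) • x)
  rw [← mul_assoc, mul_smul _ u, hux]

theorem sum_reflect [Fintype (S.ker A)] (hΛ : Even Λ) (p : X → X → Prop) (n : ℕ)
    (hn : ∀ {u : G}, IsT X u → Nat.card {x : X // p x (u • x)} = n) :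
    ∑ y : S.ker A, Nat.card {x : X // p x ((y : G) • x)} = k * n := by
  classical
  haveI := Fintype.ofFinite X
  obtain ⟨z, hz, hzA, -⟩ := N.exists_T_fix hc hΛ A A
  have hswap : ∀ q : S.ker A → X → Prop, ∑ y, Nat.card {x : X // q y x} =
      ∑ x, Nat.card {y : S.ker A // q y x} := by
    intro q
    simp only [← Fintype.card_eq_nat_card, Fintype.card_subtype, Finset.card_filter]
    exact Finset.sum_comm
  rw [hswap, Finset.sum_congr rfl (fun x _ => N.card_reflect hc hΛ hz hzA p x),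
    ← hswap fun y x => p x (((y : G) * z) • x),
    Finset.sum_congr rfl (fun y _ => hn (N.isT_mul hc hz hzA y.2).1), Finset.sum_const,
    Finset.card_univ, Fintype.card_eq_nat_card, N.card_ker, smul_eq_mul]

/-- The multiplicity of the eigenvalue `s` on the vectors fixed by a kernel. -/
theorem exists_trace_T [Nonempty X] (hΛ : Even Λ) {r s : ℤ} (hsum : r + s = (lam : ℤ) - μ)
    (hprod : r * s = (μ : ℤ) - k) (hne : r ≠ s) :
    ∃ q : ℕ, (r - s) * q = r * f - (f * ι : ℕ) + ((k : ℤ) - r) := by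
  classical
  obtain ⟨A⟩ := ‹Nonempty X›
  haveI := Fintype.ofFinite (S.ker A)
  obtain ⟨q, hq⟩ := N.exists_trace_int (S.ker A) hsum hprod hne
  refine ⟨q, mul_left_cancel₀ (a := (k : ℤ)) (by have := N.two_le_k A; omega) ?_⟩
  rw [N.card_ker A, mul_assoc] at hq
  rw [hq]
  have h1 : (∑ y : S.ker A, (Nat.card {x : X // (y : G) • x = x} : ℤ)) = (k * f : ℕ) := by
    rw [← Nat.cast_sum]
    exact_mod_cast N.sum_reflect hc hC hΛ (fun a b => b = a) f fun hu => hC.card_fix hu
  have h2 : (∑ y : S.ker A, (Nat.card {x : X // Adj x ((y : G) • x)} : ℤ)) =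
      (k * (f * ι) : ℕ) := by
    rw [← Nat.cast_sum]
    exact_mod_cast N.sum_reflect hc hC hΛ Adj (f * ι) fun hu => hC.card_moved hu
  rw [Finset.sum_add_distrib, Finset.sum_sub_distrib, ← Finset.mul_sum, h1, h2, Finset.sum_const,
    Finset.card_univ, Fintype.card_eq_nat_card, N.card_ker, nsmul_eq_mul]
  push_cast
  ring

/-- `f ι = lam + e δ` where `δ` counts the kernel elements moving a far point to a neighbour. -/
theorem exists_delta [Nonempty X] (hΛ : Even Λ) (hd : d = 1) {e : ℕ} (he : l * d = k * e) :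
    ∃ δ : ℕ, f * ι = lam + e * δ ∧ Λ ∣ δ := by
  classical
  obtain ⟨A⟩ := ‹Nonempty X›
  obtain ⟨Y, hY⟩ := S.exists_far A
  haveI := Fintype.ofFinite X
  haveI := Fintype.ofFinite (S.ker A)
  set n : X → ℕ := fun x => Nat.card {y : S.ker A // Adj x ((y : G) • x)} with hn
  have hnA : n A = 0 := by
    haveI : IsEmpty {y : S.ker A // Adj A ((y : G) • A)} :=
      ⟨fun y => S.irrefl A (by simpa [S.ker_fix y.1.2] using y.2)⟩
    exact Nat.card_of_isEmpty
  have hnI : ∀ x, Adj A x → n x = lam := by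
    intro x hx
    rw [← N.card_lam hx]
    refine Nat.card_congr (Equiv.ofBijective (fun y => (⟨(y.1 : G) • x, ?_, S.symm y.2⟩ :
      {R : X // Adj A R ∧ Adj R x})) ⟨fun a b e' => ?_, fun R => ?_⟩)
    · have := S.adj_smul (y.1 : G) hx
      rwa [S.ker_fix y.1.2] at this
    · exact Subtype.ext (Subtype.ext (S.ker_inj hx a.1.2 b.1.2 (congrArg Subtype.val e' :)))
    · obtain ⟨y, hy, hyR⟩ := S.exists_ker_smul hx R.2.1
      exact ⟨⟨⟨y, hy⟩, by show Adj x (y • x); rw [hyR]; exact S.symm R.2.2⟩, Subtype.ext hyR⟩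
  have hnF : ∀ x, Far Adj A x → n x = n Y := by
    intro x hx
    obtain ⟨g, hgA, rfl⟩ := S.trans_far hY hx
    refine (Nat.card_congr (Equiv.subtypeEquiv
      (⟨fun y => ⟨g * y * g⁻¹, S.conj_mem_ker_self hgA y.2⟩,
        fun y => ⟨g⁻¹ * y * g, by
          have := S.conj_mem_ker_self (g := g⁻¹) (inv_smul_eq_iff.2 hgA.symm) y.2
          rwa [inv_inv] at this⟩,
        fun y => Subtype.ext (by simp [mul_assoc]), fun y => Subtype.ext (by simp [mul_assoc])⟩ :
        S.ker A ≃ S.ker A)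
      fun y => ?_)).symm
    show _ ↔ Adj (g • Y) ((g * (y : G) * g⁻¹) • g • Y)
    rw [mul_smul, mul_smul, inv_smul_smul, S.adj_iff]
  have hsum : ∑ x, n x = k * lam + l * n Y := by
    have hcase : ∀ x, n x = (if Adj A x then lam else 0) + (if Far Adj A x then n Y else 0) := by
      intro x
      rcases Data.cases3 (Adj := Adj) A x with h | h | h
      · subst h
        rw [hnA, if_neg (S.irrefl A), if_neg fun h => h.1 rfl]
      · rw [hnI x h, if_pos h, if_neg fun h' => h'.2 h, add_zero]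
      · rw [hnF x h, if_neg h.2, if_pos h, zero_add]
    rw [Finset.sum_congr rfl fun x _ => hcase x, Finset.sum_add_distrib, ← Finset.sum_filter,
      ← Finset.sum_filter, Finset.sum_const, Finset.sum_const, ← Fintype.card_subtype,
      ← Fintype.card_subtype, Fintype.card_eq_nat_card, Fintype.card_eq_nat_card, N.card_adj,
      N.card_far, smul_eq_mul, smul_eq_mul]
  have hswap : ∑ y : S.ker A, Nat.card {x : X // Adj x ((y : G) • x)} = ∑ x, n x := by
    simp only [hn, ← Fintype.card_eq_nat_card, Fintype.card_subtype, Finset.card_filter]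
    exact Finset.sum_comm
  have hT := N.sum_reflect hc hC (A := A) hΛ Adj (f * ι) fun hu => hC.card_moved hu
  rw [hswap, hsum] at hT
  rw [hd, mul_one] at he
  refine ⟨n Y, Nat.eq_of_mul_eq_mul_left (n := k) (by have := N.two_le_k A; omega)
    (by rw [← hT, he]; ring), ?_⟩
  -- the stabiliser of the two far points acts freely on these kernel elements
  haveI : Finite (ConjAct G) := Finite.of_equiv G ConjAct.toConjAct.toEquiv
  let L' : Subgroup (ConjAct G) := (pst G A Y).map (ConjAct.toConjAct (G := G)).toMonoidHom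
  have hmem : ∀ g : ConjAct G, g ∈ L' → ConjAct.ofConjAct g ∈ pst G A Y := by
    rintro g ⟨x, hx, rfl⟩
    simpa using hx
  have key := dvd_card_of_free L' (fun y : G => y ∈ S.ker A ∧ Adj Y (y • Y))
    (fun g hg y hy => by
      rw [ConjAct.smul_def]
      have hg' := hmem g hg
      refine ⟨S.conj_mem_ker_self hg'.1 hy.1, ?_⟩
      rw [mul_smul, mul_smul, inv_smul_eq_iff.2 hg'.2.symm]
      have := S.adj_smul (ConjAct.ofConjAct g) hy.2
      rwa [hg'.2] at this)
    (fun g hg y hy e' => by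
      rw [ConjAct.smul_def] at e'
      have hg' := hmem g hg
      have hy1 : y ≠ 1 := fun h => S.irrefl Y (by simpa [h] using hy.2)
      have h1 : ConjAct.ofConjAct g ∈ S.ker A ⊓ stabilizer G Y :=
        ⟨S.mem_ker_of_commute hg'.1 hy.1 hy1 (mul_inv_eq_iff_eq_mul.1 e'), hg'.2⟩
      have hbot : S.ker A ⊓ stabilizer G Y = ⊥ := Subgroup.card_eq_one.1 (by rw [N.card_D hY, hd])
      rw [hbot, Subgroup.mem_bot] at h1
      exact ConjAct.ofConjAct.injective (by rw [h1, map_one]))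
  rw [Subgroup.card_map_of_injective (f := (ConjAct.toConjAct (G := G)).toMonoidHom)
      ConjAct.toConjAct.injective, N.card_pfar hY] at key
  exact key.trans (dvd_of_eq (Nat.card_congr ⟨fun y => ⟨⟨y.1, y.2.1⟩, y.2.2⟩,
    fun y => ⟨y.1.1, y.1.2, y.2⟩, fun y => rfl, fun y => rfl⟩))

end Nums

end Cfsg.Agent.RankThreeFrob
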