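/-
Rank three actions with a Frobenius suborbit: the kernels of far points meet non-trivially.

Main result (namespace `Cfsg.Agent.RankThreeFrob`): `Nums.exists_bound`, bounding `k / d` by the
number of fixed points of an involution on the set fixed by `D`.
-/
import Cfsg.Agent.Lib.RankThreeFrob.EvenArith

set_option autoImplicit false
set_option linter.style.haveILetI false
set_option linter.unusedSectionVars false

namespace Cfsg.Agent.RankThreeFrob

open MulAction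

variable {G X : Type*} [Group G] [MulAction G X] [Finite G] [Finite X] {Adj : X → X → Prop}
  {S : Data G X Adj} {k c l Λ d lam μ : ℕ}

theorem card_subtype_ne_add_one {α : Type*} [Finite α] (p : α → Prop) {a : α} (ha : p a) :
    Nat.card {x // p x ∧ x ≠ a} + 1 = Nat.card {x // p x} := by
  classical
  rw [← Nat.card_congr (Equiv.sumCompl fun x : {x // p x} => x.1 ≠ a), Nat.card_sum,
    Nat.card_congr (Equiv.subtypeSubtypeEquivSubtypeInter p (fun x => x ≠ a))]
  congr 1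
  rw [eq_comm, Nat.card_eq_one_iff_unique]
  exact ⟨⟨fun x y => Subtype.ext (Subtype.ext ((not_not.1 x.2).trans (not_not.1 y.2).symm))⟩,
    ⟨⟨⟨a, ha⟩, fun e => e rfl⟩⟩⟩

namespace Nums

variable (N : Nums S k c l Λ d lam μ) (hc : Even c) {A Y : X}
include N hc

theorem exists_bound [Nonempty X] (hΛ : Even Λ) (hd : d ≠ 1) {c₀ : ℕ} (hc₀ : Λ = d * c₀) :
    ∃ W : ℕ, c₀ * W + 1 ≤ d ∧ k ≤ (W + 2) * d := by
  classical
  obtain ⟨A⟩ := ‹Nonempty X›
  obtain ⟨Y, hY⟩ := S.exists_far A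
  haveI := Fintype.ofFinite X
  haveI := Fintype.ofFinite G
  set D := S.ker A ⊓ stabilizer G Y with hD
  let p : X → Prop := fun P => ∀ e ∈ D, e • P = P
  have hcd : Nat.card D = d := N.card_D hY
  have hd0 : 0 < d := hcd ▸ Nat.card_pos
  have hk0 : 0 < k := by have := N.two_le_k A; omega
  obtain ⟨⟨e₀, he₀⟩, he₀1'⟩ := Subgroup.ne_bot_iff_exists_ne_one.1
    (show D ≠ ⊥ from fun h => hd (by rw [← hcd, h, Subgroup.card_bot]))
  have he₀1 : e₀ ≠ 1 := fun e => he₀1' (Subtype.ext e)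
  have hpA : p A := fun e he => S.ker_fix he.1
  have hpY : p Y := fun e he => he.2
  have hker : ∀ P, p P → ∀ e ∈ D, e ∈ S.ker P := fun P hP e he =>
    N.mem_ker_of_fix he.1 (hP e he)
  have hfar : ∀ Q, p Q → Q ≠ A → Far Adj A Q := fun Q hQ hne =>
    ⟨hne.symm, N.not_adj_of_fix he₀.1 he₀1 (S.ker_fix he₀.1) (hQ e₀ he₀)⟩
  have hinv : ∀ {u : G}, IsT X u → ∀ P, p P → u • P = P → ∀ e ∈ D, u * e * u = e⁻¹ :=
    fun hu P hP huP e he => N.inverts hc hu huP (hker P hP e he)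
  have hpres : ∀ {u : G}, IsT X u → (∀ e ∈ D, u * e * u = e⁻¹) → ∀ Q, p Q → p (u • Q) := by
    intro u hu hi Q hQ e he
    have h := hi e⁻¹ (inv_mem he)
    rw [inv_inv] at h
    rw [← h, mul_smul, mul_smul, hu.smul_smul, hQ _ (inv_mem he)]
  set Fix : G → ℕ := fun u => Nat.card {P // (p P ∧ u • P = P) ∧ P ≠ A} with hFix
  obtain ⟨u₀, hu₀, hu₀A, hu₀Y⟩ := N.exists_T_pst hc hΛ hY
  set W := Fix u₀ with hW
  have hWpos : 0 < W := Finite.card_pos_iff.2 ⟨⟨Y, ⟨hpY, hu₀Y⟩, hY.1.symm⟩⟩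
  have hKp : ∀ y ∈ S.ker A, ∀ P, p (y • P) ↔ p P := by
    intro y hy P
    refine forall₂_congr fun e he => ?_
    rw [← mul_smul, (N.ker_comm hc he.1 hy).eq, mul_smul, smul_left_cancel_iff]
  have hWu : ∀ u, IsT X u → u • A = A → Fix u = W := by
    intro u hu huA
    obtain ⟨B, hB, hB'⟩ := N.exists_partner hc hu₀ hu₀A
    obtain ⟨B', hB1, hB1'⟩ := N.exists_partner hc hu huA
    obtain ⟨y, hy, rfl⟩ := S.exists_ker_smul hB hB1
    have e : y * u₀ * y⁻¹ = u := N.eq_of_edge hc (hu₀.conj y) hu hB1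
      (by rw [mul_smul, mul_smul, inv_smul_eq_iff.2 (S.ker_fix hy).symm, hu₀A, S.ker_fix hy])
      (by rw [mul_smul, mul_smul, inv_smul_smul, hB']) huA hB1'
    subst e
    refine card_image_smul y _ _ fun P => ?_
    rw [hKp y hy, mul_smul, mul_smul, inv_smul_smul, smul_left_cancel_iff, Ne, Ne,
      show (y • P = A ↔ P = A) by
        conv_lhs => rw [← S.ker_fix hy]
        exact smul_left_cancel_iff y]
  -- involutions fixing `A` and a far fixed point of `D`
  set m0 := Nat.card {Q // p Q ∧ Q ≠ A} with hm0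
  have h3 : k * W = m0 * d := by
    have e : (Σ u : {u : G // IsT X u ∧ u • A = A}, {P // (p P ∧ u.1 • P = P) ∧ P ≠ A}) ≃
        (Σ P : {Q // p Q ∧ Q ≠ A}, {u : G // IsT X u ∧ u • A = A ∧ u • P.1 = P.1}) :=
      ⟨fun a => ⟨⟨a.2.1, a.2.2.1.1, a.2.2.2⟩, ⟨a.1.1, a.1.2.1, a.1.2.2, a.2.2.1.2⟩⟩,
        fun b => ⟨⟨b.2.1, b.2.2.1, b.2.2.2.1⟩, ⟨b.1.1, ⟨b.1.2.1, b.2.2.2.2⟩, b.1.2.2⟩⟩,
        fun a => rfl, fun b => rfl⟩
    have h := Nat.card_congr e
    rw [Nat.card_sigma, Nat.card_sigma,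
      Finset.sum_congr rfl (fun u _ => (show _ = W from hWu u.1 u.2.1 u.2.2)),
      Finset.sum_congr rfl (fun P _ => N.card_T_pst hc hΛ (hfar P.1 P.2.1 P.2.2)),
      Finset.sum_const, Finset.sum_const, Finset.card_univ, Finset.card_univ,
      Fintype.card_eq_nat_card, Fintype.card_eq_nat_card, N.card_T_fix hc, smul_eq_mul,
      smul_eq_mul] at h
    exact h
  -- all involutions with a fixed point fixed by `D`
  let U := {u : G // IsT X u ∧ ∃ P, p P ∧ u • P = P}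
  obtain ⟨htr, -⟩ := N.centralizer_D hc hY hd
  have hUfix : ∀ u : U, Nat.card {P // p P ∧ u.1 • P = P} = W + 1 := by
    rintro ⟨u, hu, P, hP, huP⟩
    obtain ⟨g, hg, rfl⟩ := htr P hP
    have hu' : IsT X (g⁻¹ * u * g) := by simpa using hu.conj g⁻¹
    have hu'A : (g⁻¹ * u * g) • A = A := by rw [mul_smul, mul_smul, huP, inv_smul_smul]
    rw [← hWu _ hu' hu'A, hFix,
      card_subtype_ne_add_one (fun P => p P ∧ (g⁻¹ * u * g) • P = P) ⟨hpA, hu'A⟩]
    refine card_image_smul g _ _ fun R => ?_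
    refine and_congr (forall₂_congr fun e he => ?_) ?_
    · rw [← mul_smul, Subgroup.mem_centralizer_iff.1 hg e he, mul_smul, smul_left_cancel_iff]
    · rw [mul_smul, mul_smul, inv_smul_eq_iff]
  have h4 : Nat.card U * (W + 1) = (m0 + 1) * k := by
    have e : (Σ u : U, {P // p P ∧ u.1 • P = P}) ≃
        (Σ P : {Q // p Q}, {u : G // IsT X u ∧ u • P.1 = P.1}) :=
      ⟨fun a => ⟨⟨a.2.1, a.2.2.1⟩, ⟨a.1.1, a.1.2.1, a.2.2.2⟩⟩,
        fun b => ⟨⟨b.2.1, b.2.2.1, b.1.1, b.1.2, b.2.2.2⟩, ⟨b.1.1, b.1.2, b.2.2.2⟩⟩,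
        fun a => rfl, fun b => rfl⟩
    have h := Nat.card_congr e
    rw [Nat.card_sigma, Nat.card_sigma, Finset.sum_congr rfl (fun u _ => hUfix u),
      Finset.sum_congr rfl (fun (P : {Q // p Q}) _ => N.card_T_fix hc P.1),
      Finset.sum_const, Finset.sum_const, Finset.card_univ, Finset.card_univ,
      Fintype.card_eq_nat_card, Fintype.card_eq_nat_card, smul_eq_mul, smul_eq_mul,
      ← card_subtype_ne_add_one p hpA] at h
    exact h
  -- an involution of `U` is determined by the image of `A` up to an element of `D`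
  let V : X → Type _ := fun Q => {u : G // IsT X u ∧ u • A = Q ∧ ∀ e ∈ D, u * e * u = e⁻¹}
  have hV : ∀ Q, p Q → Q ≠ A → Nat.card (V Q) ≤ d := by
    intro Q hQ hne
    rcases isEmpty_or_nonempty (V Q) with hE | ⟨⟨v, hv, hvA, hvi⟩⟩
    · rw [Nat.card_of_isEmpty]; exact Nat.zero_le _
    have hvQ : v • Q = A := by rw [← hvA, hv.smul_smul]
    rw [← N.card_D (hfar Q hQ hne)]
    refine Nat.card_le_card_of_injective (fun u => (⟨v * u.1, ?_, ?_⟩ :
      ↥(S.ker A ⊓ stabilizer G Q))) fun a b e =>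
        Subtype.ext (mul_left_cancel (congrArg Subtype.val e :))
    · refine S.mem_ker_of_commute (y := e₀) (by rw [mul_smul, u.2.2.1, hvQ]) he₀.1 he₀1 ?_
      show v * u.1 * e₀ = e₀ * (v * u.1)
      have h1 := u.2.2.2 e₀ he₀
      have h2 := hvi e₀⁻¹ (inv_mem he₀)
      rw [inv_inv] at h2
      calc v * u.1 * e₀ = v * (u.1 * e₀ * u.1) * u.1⁻¹ := by group
        _ = (v * e₀⁻¹ * v) * v⁻¹ * u.1⁻¹ := by rw [h1]; group
        _ = e₀ * (v * u.1) := by rw [h2, hv.inv_eq, u.2.1.inv_eq, mul_assoc]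
    · show (v * u.1) • Q = Q
      rw [mul_smul, show u.1 • Q = A from (congrArg (u.1 • ·) u.2.2.1).symm.trans
        (u.2.1.smul_smul A), hvA]
  have h5 : Nat.card U ≤ k + m0 * d := by
    calc Nat.card U ≤ Nat.card ({u : G // IsT X u ∧ u • A = A} ⊕
          (Σ Q : {Q // p Q ∧ Q ≠ A}, V Q.1)) := by
          refine Nat.card_le_card_of_injective (fun u =>
            if h : u.1 • A = A then Sum.inl ⟨u.1, u.2.1, h⟩ else Sum.inr
              ⟨⟨u.1 • A, hpres u.2.1 (fun e he => ?_) A hpA, h⟩, ⟨u.1, u.2.1, rfl, fun e he => ?_⟩⟩)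
            ?_
          · obtain ⟨P, hP, huP⟩ := u.2.2
            exact hinv u.2.1 P hP huP e he
          · obtain ⟨P, hP, huP⟩ := u.2.2
            exact hinv u.2.1 P hP huP e he
          · intro a b e
            apply Subtype.ext
            simp only at e
            split_ifs at e with ha hb hb
            · exact (congrArg Subtype.val (Sum.inl.inj e :) :)
            · exact congrArg (fun q : Σ Q : {Q // p Q ∧ Q ≠ A}, V Q.1 => q.2.1) (Sum.inr.inj e)
      _ ≤ _ := by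
          rw [Nat.card_sum, N.card_T_fix hc A, Nat.card_sigma]
          refine Nat.add_le_add_left ((Finset.sum_le_card_nsmul _ _ d fun Q _ =>
            hV Q.1 Q.2.1 Q.2.2).trans (le_of_eq ?_)) _
          rw [Finset.card_univ, Fintype.card_eq_nat_card, smul_eq_mul]
  -- the normaliser of `D`
  let Nset := {g : G // g • A = A ∧ ∀ e ∈ D, g * e * g⁻¹ ∈ D}
  have h6 : m0 * Λ ≤ Nat.card Nset := by
    rw [hm0, ← N.card_pfar hY, ← Nat.card_prod]
    have hg : ∀ Q : {Q // p Q ∧ Q ≠ A}, ∃ g : G, g • A = A ∧ g • Y = Q.1 :=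
      fun Q => S.trans_far hY (hfar Q.1 Q.2.1 Q.2.2)
    choose g hgA hgY using hg
    refine Nat.card_le_card_of_injective (fun q =>
      (⟨g q.1 * q.2.1, by rw [mul_smul, q.2.2.1, hgA], fun e he => ?_⟩ : Nset)) ?_
    · have hDQ : D = S.ker A ⊓ stabilizer G q.1.1 :=
        Subgroup.eq_of_le_of_card_ge (fun e he => ⟨he.1, q.1.2.1 e he⟩)
          (by rw [hcd, N.card_D (hfar q.1.1 q.1.2.1 q.1.2.2)])
      rw [hDQ]
      have hA' : (g q.1 * q.2.1) • A = A := by rw [mul_smul, q.2.2.1, hgA]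
      have hY' : (g q.1 * q.2.1) • Y = q.1.1 := by rw [mul_smul, q.2.2.2, hgY]
      refine ⟨S.conj_mem_ker_self hA' he.1, ?_⟩
      show (g q.1 * q.2.1 * e * (g q.1 * q.2.1)⁻¹) • q.1.1 = q.1.1
      rw [mul_smul, mul_smul, inv_smul_eq_iff.2 hY'.symm, he.2, hY']
    · rintro ⟨Q, x⟩ ⟨Q', x'⟩ e
      have e' : g Q * x.1 = g Q' * x'.1 := congrArg Subtype.val e
      have hQ : Q = Q' := by
        apply Subtype.ext
        have := congrArg (· • Y) e'
        simpa [mul_smul, (mem_pst.1 x.2).2, (mem_pst.1 x'.2).2, hgY] using this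
      subst hQ
      rw [show x = x' from Subtype.ext (mul_left_cancel e')]
  have h7 : Nat.card Nset ≤ k * (d - 1) := by
    let Dn := {x : G // x ∈ D ∧ x ≠ 1}
    let φ : Nset → Dn := fun g => ⟨g.1 * e₀ * g.1⁻¹, g.2.2 e₀ he₀, fun h => he₀1 (by
      simpa using h)⟩
    rw [← Nat.card_congr (Equiv.sigmaFiberEquiv φ), Nat.card_sigma]
    refine (Finset.sum_le_card_nsmul _ _ k fun x _ => ?_).trans (le_of_eq ?_)
    · rcases isEmpty_or_nonempty {g : Nset // φ g = x} with hE | ⟨⟨g₀, hg₀⟩⟩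
      · rw [Nat.card_of_isEmpty]; exact Nat.zero_le _
      rw [← N.card_ker A]
      refine Nat.card_le_card_of_injective (fun g => (⟨g₀.1⁻¹ * g.1.1, ?_⟩ : S.ker A))
        fun a b e => Subtype.ext (Subtype.ext (mul_left_cancel (congrArg Subtype.val e :)))
      refine S.mem_ker_of_commute (y := e₀) (by rw [mul_smul, g.1.2.1, inv_smul_eq_iff, g₀.2.1])
        he₀.1 he₀1 ?_
      have h : g.1.1 * e₀ * g.1.1⁻¹ = g₀.1 * e₀ * g₀.1⁻¹ :=
        congrArg Subtype.val (g.2.trans hg₀.symm)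
      show g₀.1⁻¹ * g.1.1 * e₀ = e₀ * (g₀.1⁻¹ * g.1.1)
      calc g₀.1⁻¹ * g.1.1 * e₀ = g₀.1⁻¹ * (g.1.1 * e₀ * g.1.1⁻¹) * g.1.1 := by group
        _ = _ := by rw [h]; group
    · rw [Finset.card_univ, Fintype.card_eq_nat_card, smul_eq_mul, mul_comm k]
      congr 1
      have := card_subtype_ne_add_one (fun x => x ∈ D) (one_mem D)
      rw [show Nat.card {x // x ∈ D} = d from hcd] at this
      show Nat.card {x // x ∈ D ∧ x ≠ 1} = d - 1
      omega
  refine ⟨W, ?_, ?_⟩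
  · have h8 : k * (c₀ * W) ≤ k * (d - 1) := by
      calc k * (c₀ * W) = c₀ * (k * W) := by ring
        _ = m0 * Λ := by rw [h3, hc₀]; ring
        _ ≤ _ := h6.trans h7
    have := Nat.le_of_mul_le_mul_left h8 hk0
    omega
  · have h9 : k * (m0 + 1) ≤ k * ((W + 1) * (W + 1)) := by
      calc k * (m0 + 1) = Nat.card U * (W + 1) := by rw [h4]; ring
        _ ≤ (k + m0 * d) * (W + 1) := Nat.mul_le_mul_right _ h5
        _ = _ := by rw [← h3]; ring
    have h10 : m0 + 1 ≤ (W + 1) * (W + 1) := Nat.le_of_mul_le_mul_left h9 hk0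
    refine Nat.le_of_mul_le_mul_right ?_ hWpos
    calc k * W = m0 * d := h3
      _ ≤ (W * (W + 2)) * d := Nat.mul_le_mul_right _ (by nlinarith)
      _ = _ := by ring

end Nums

end Cfsg.Agent.RankThreeFrob
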