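/-
Rank three actions with a Frobenius suborbit: the involutions exchanging two far points.

Main result (namespace `Cfsg.Agent.RankThreeFrob`): `Nums.iota'_eq`: if they make up more than
three quarters of their coset they fill it.
-/
import Cfsg.Agent.Lib.RankThreeFrob.EvenD
import Mathlib.GroupTheory.PGroup

set_option autoImplicit false
set_option linter.style.haveILetI false
set_option linter.unusedSectionVars false

namespace Cfsg.Agent.RankThreeFrob

open MulAction

/-- A subset of more than half of a finite group lies in no proper subgroup. -/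
theorem eq_top_of_half_lt {L : Type*} [Group L] [Finite L] (H : Subgroup L) (p : L → Prop)
    (hp : ∀ x, p x → x ∈ H) (h : Nat.card L < 2 * Nat.card {x // p x}) : H = ⊤ := by
  have h1 : Nat.card {x // p x} ≤ Nat.card H :=
    Nat.card_le_card_of_injective (fun x => (⟨x.1, hp x.1 x.2⟩ : H))
      fun a b e => Subtype.ext (congrArg Subtype.val e :)
  have h2 := H.index_mul_card
  rw [← Subgroup.index_eq_one]
  have h3 : H.index ≠ 0 := H.index_ne_zero_of_finite
  by_contra h4
  have h5 : 2 * Nat.card H ≤ H.index * Nat.card H := Nat.mul_le_mul_right _ (by omega)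
  omega

/-- An anti-automorphism-like map inverting more than three quarters of a group inverts all. -/
theorem inverted_all {L : Type*} [Group L] [Finite L] (τ : L →* L)
    (h : (3 * Nat.card L < 4 * Nat.card {x : L // τ x = x⁻¹}) ∨
      ((∀ a b : L, a * b = b * a) ∧ Nat.card L < 2 * Nat.card {x : L // τ x = x⁻¹})) :
    (∀ a b : L, a * b = b * a) ∧ ∀ x : L, τ x = x⁻¹ := by
  classical
  haveI := Fintype.ofFinite L
  have hcomm : ∀ a b : L, a * b = b * a := by
    rcases h with h | h
    · set I : Finset L := Finset.univ.filter fun x => τ x = x⁻¹ with hI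
      have hI' : I.card = Nat.card {x : L // τ x = x⁻¹} := by
        rw [← Fintype.card_eq_nat_card, Fintype.card_subtype]
      have hcen : ∀ x, τ x = x⁻¹ → x ∈ Subgroup.center L := by
        intro x hx
        have htop : Subgroup.centralizer ({x} : Set L) = ⊤ := by
          refine eq_top_of_half_lt _ (fun y => τ y = y⁻¹ ∧ τ (x * y) = (x * y)⁻¹) ?_ ?_
          · rintro y ⟨hy, hxy⟩
            rw [Subgroup.mem_centralizer_singleton_iff]
            rw [map_mul, hx, hy, mul_inv_rev] at hxy
            have h' := congrArg (·⁻¹) hxy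
            simp only [mul_inv_rev, inv_inv] at h'
            exact h'
          · set J : Finset L := Finset.univ.filter fun y => τ (x * y) = (x * y)⁻¹ with hJ
            have hJ' : J.card = I.card := by
              refine Finset.card_bij' (fun y _ => x * y) (fun y _ => x⁻¹ * y) ?_ ?_ ?_ ?_ <;>
                simp [hI, hJ]
            have h1 := Finset.card_union_add_card_inter I J
            have h2 := Finset.card_le_univ (I ∪ J)
            rw [← Fintype.card_eq_nat_card (α := {y // τ y = y⁻¹ ∧ τ (x * y) = (x * y)⁻¹}),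
              Fintype.card_subtype, Finset.filter_and, ← hI, ← hJ]
            rw [Fintype.card_eq_nat_card] at h2
            omega
        refine Subgroup.mem_center_iff.2 fun g => ?_
        exact Subgroup.mem_centralizer_singleton_iff.1 (htop ▸ Subgroup.mem_top g)
      have htop := eq_top_of_half_lt _ _ hcen (by omega)
      exact fun a b => (Subgroup.mem_center_iff.1 (htop ▸ Subgroup.mem_top b) a)
    · exact h.1
  refine ⟨hcomm, fun x => ?_⟩
  let H : Subgroup L :=
    { carrier := {x | τ x = x⁻¹}
      one_mem' := by simp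
      mul_mem' := fun {a b} (ha : τ a = a⁻¹) (hb : τ b = b⁻¹) => by
        show τ (a * b) = (a * b)⁻¹
        rw [map_mul, ha, hb, mul_inv_rev, hcomm]
      inv_mem' := fun {a} (ha : τ a = a⁻¹) => by
        show τ a⁻¹ = a⁻¹⁻¹
        rw [map_inv, ha] }
  have htop : H = ⊤ := eq_top_of_half_lt H (fun x => τ x = x⁻¹) (fun x hx => hx) (by rcases h with h | h <;> omega)
  exact (htop ▸ Subgroup.mem_top x : x ∈ H)

theorem card_subtype_ne_one {L : Type*} [Group L] [Finite L] {H : Subgroup L} :
    Nat.card {x : L // x ∈ H ∧ x ≠ 1} + 1 = Nat.card H :=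
  card_subtype_ne_add_one (fun x => x ∈ H) H.one_mem

variable {G X : Type*} [Group G] [MulAction G X] [Finite G] [Finite X] {Adj : X → X → Prop}
  {S : Data G X Adj} {k c l Λ d lam μ : ℕ}

namespace Nums

variable (N : Nums S k c l Λ d lam μ) (hc : Even c) {f ι ι' : ℕ} (hC : Counts S f ι ι')
include N hc hC

theorem iota'_eq [Nonempty X] (hΛ : Even Λ) (hd : d = 1)
    (h : 3 * Λ < 4 * ι' ∨ (Λ = 4 ∧ Λ < 2 * ι')) : ι' = Λ := by
  classical
  obtain ⟨A⟩ := ‹Nonempty X›
  obtain ⟨Y, hY⟩ := S.exists_far A
  set L := pst G A Y with hL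
  have hcard : Nat.card L = Λ := N.card_pfar hY
  have hsw := hC.card_swap' hY
  have hpos : 0 < ι' := by omega
  obtain ⟨⟨t, ht, htA⟩⟩ : Nonempty {u : G // IsT X u ∧ u • A = Y} :=
    Finite.card_pos_iff.1 (by omega)
  have htY : t • Y = A := by rw [← htA, ht.smul_smul]
  have hLt : ∀ x ∈ L, t * x * t ∈ L := fun x hx =>
    ⟨by show (t * x * t) • A = A; rw [mul_smul, mul_smul, htA, (mem_pst.1 hx).2, htY],
      by show (t * x * t) • Y = Y; rw [mul_smul, mul_smul, htY, (mem_pst.1 hx).1, htA]⟩
  let τ : L →* L :=
    { toFun := fun x => ⟨t * x * t, hLt x x.2⟩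
      map_one' := Subtype.ext (by show t * 1 * t = 1; rw [mul_one, ht.1])
      map_mul' := fun a b => Subtype.ext (by
        show t * ((a : G) * b) * t = t * a * t * (t * b * t)
        calc t * ((a : G) * b) * t = t * a * 1 * b * t := by group
          _ = t * a * (t * t) * b * t := by rw [ht.1]
          _ = _ := by group) }
  have hle : ι' ≤ Nat.card {x : L // τ x = x⁻¹} := by
    rw [← hsw]
    refine Nat.card_le_card_of_injective (fun u => (⟨⟨t * u.1, ?_, ?_⟩, ?_⟩ : {x : L // τ x = x⁻¹}))
      fun a b e => Subtype.ext (mul_left_cancel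
        (congrArg (fun q : {x : L // τ x = x⁻¹} => ((q.1 : L) : G)) e :))
    · show (t * u.1) • A = A
      rw [mul_smul, u.2.2, htY]
    · show (t * u.1) • Y = Y
      rw [mul_smul, show u.1 • Y = A from (congrArg (u.1 • ·) u.2.2).symm.trans
        (u.2.1.smul_smul A), htA]
    · refine Subtype.ext ?_
      show t * (t * u.1) * t = (t * u.1)⁻¹
      rw [← mul_assoc, ht.1, one_mul, mul_inv_rev, u.2.1.inv_eq, ht.inv_eq]
  obtain ⟨hcomm, hinv⟩ := inverted_all τ (by
    rw [hcard]
    rcases h with h | ⟨h4, h⟩
    · exact Or.inl (by omega)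
    · refine Or.inr ⟨?_, by omega⟩
      haveI : Fact (Nat.Prime 2) := ⟨Nat.prime_two⟩
      haveI := IsPGroup.isMulCommutative_of_card_eq_prime_sq (p := 2) (G := L)
        (by rw [hcard, h4]; norm_num)
      exact fun a b => mul_comm' a b)
  -- the squares have index two
  let sq : L →* L :=
    { toFun := fun x => x * x
      map_one' := one_mul 1
      map_mul' := fun a b => by
        show a * b * (a * b) = a * a * (b * b)
        calc a * b * (a * b) = a * (b * a) * b := by group
          _ = a * (a * b) * b := by rw [hcomm b a]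
          _ = _ := by group }
  have hker : Nat.card sq.ker = 2 := by
    have hT := (N.card_T_pst hc hΛ hY).trans hd
    rw [← card_subtype_ne_one]
    suffices Nat.card {x : L // x ∈ sq.ker ∧ x ≠ 1} =
        Nat.card {u : G // IsT X u ∧ u • A = A ∧ u • Y = Y} by omega
    refine (Nat.card_congr ⟨fun x => ⟨x.1.1, ⟨?_, ?_, A, x.1.2.1⟩, x.1.2.1, x.1.2.2⟩,
      fun u => ⟨⟨u.1, u.2.2.1, u.2.2.2⟩, ?_, ?_⟩, fun x => rfl, fun u => rfl⟩)
    · exact congrArg Subtype.val (show x.1 * x.1 = 1 from x.2.1)
    · exact fun e => x.2.2 (Subtype.ext e)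
    · exact Subtype.ext u.2.1.1
    · exact fun e => u.2.1.2.1 (congrArg Subtype.val e)
  have hrange : 2 * Nat.card sq.range = Λ := by
    rw [← hcard, ← sq.ker.card_mul_index, Subgroup.index_ker, hker]
  let Wt : L → Prop := fun x => IsT X (t * (x : G))
  have hW : Nat.card {x : L // Wt x} = ι' := by
    rw [← hsw]
    refine Nat.card_congr ⟨fun x => ⟨t * x.1.1, x.2, by rw [mul_smul, (mem_pst.1 x.1.2).1, htA]⟩,
      fun u => ⟨⟨t * u.1, ?_, ?_⟩, ?_⟩, fun x => ?_, fun u => ?_⟩
    · show (t * u.1) • A = A
      rw [mul_smul, u.2.2, htY]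
    · show (t * u.1) • Y = Y
      rw [mul_smul, show u.1 • Y = A from (congrArg (u.1 • ·) u.2.2).symm.trans
        (u.2.1.smul_smul A), htA]
    · show IsT X (t * (t * u.1))
      rw [← mul_assoc, ht.1, one_mul]
      exact u.2.1
    · exact Subtype.ext (Subtype.ext (by show t * (t * x.1.1) = x.1.1; rw [← mul_assoc, ht.1, one_mul]))
    · exact Subtype.ext (by show t * (t * u.1) = u.1; rw [← mul_assoc, ht.1, one_mul])
  have hclosed : ∀ x y : L, Wt x → Wt (x * (y * y)) := by
    intro x y hx
    have h1 := IsT.conj hx (y : G)⁻¹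
    have h2 : (y : G)⁻¹ * (t * x) * (y : G)⁻¹⁻¹ = t * (x * (y * y) : L) := by
      have h3 : t * (y : G)⁻¹ * t = y := by
        have h := congrArg Subtype.val (hinv y⁻¹)
        simpa [τ] using h
      have h4 : (x : G) * y = y * x := congrArg Subtype.val (hcomm x y)
      rw [inv_inv, Subgroup.coe_mul, Subgroup.coe_mul]
      calc (y : G)⁻¹ * (t * x) * y = (t * t) * (y : G)⁻¹ * (t * x) * y := by rw [ht.1, one_mul]
        _ = t * (t * (y : G)⁻¹ * t) * ((x : G) * y) := by group
        _ = t * ((y : G) * x) * y := by rw [h3]; group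
        _ = _ := by rw [← h4]; group
    show IsT X (t * ((x * (y * y) : L) : G))
    rw [← h2]
    exact h1
  have hall : ∀ x : L, Wt x := by
    intro x
    haveI := Fintype.ofFinite L
    set I : Finset L := Finset.univ.filter Wt with hI
    set J : Finset L := Finset.univ.filter fun w => x⁻¹ * w ∈ sq.range with hJ
    have hI' : I.card = ι' := by
      rw [← hW, ← Fintype.card_eq_nat_card, Fintype.card_subtype]
    have hJ' : J.card = Nat.card sq.range := by
      rw [← Fintype.card_subtype, Fintype.card_eq_nat_card]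
      exact Nat.card_congr ((Equiv.mulLeft x⁻¹).subtypeEquiv fun w => Iff.rfl)
    have h1 := Finset.card_union_add_card_inter I J
    have h2 := Finset.card_le_univ (I ∪ J)
    rw [Fintype.card_eq_nat_card, hcard] at h2
    obtain ⟨w, hw⟩ := Finset.card_pos.1 (show 0 < (I ∩ J).card by omega)
    simp only [hI, hJ, Finset.mem_inter, Finset.mem_filter, Finset.mem_univ, true_and] at hw
    obtain ⟨y, hy⟩ := hw.2
    have hy' : y * y = x⁻¹ * w := hy
    have := hclosed w y⁻¹ hw.1
    rwa [← mul_inv_rev, hy', mul_inv_rev, inv_inv, ← mul_assoc, mul_inv_cancel, one_mul] at this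
  rw [← hW, ← hcard]
  exact Nat.card_congr (Equiv.subtypeUnivEquiv hall)

end Nums

end Cfsg.Agent.RankThreeFrob
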