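/-
Rank three actions with a Frobenius suborbit: the possible orders.

Main result (namespace `Cfsg.Agent.RankThreeFrob`): `Nums.order_cases`.
-/
import Cfsg.Agent.Lib.RankThreeFrob.Arith
import Cfsg.Agent.Lib.RankThreeFrob.Swap

set_option autoImplicit false
set_option maxHeartbeats 1000000
set_option linter.style.haveILetI false
set_option linter.unusedSectionVars false

namespace Cfsg.Agent.RankThreeFrob

open MulAction

variable {G X : Type*} [Group G] [MulAction G X] [Finite G] [Finite X] {Adj : X → X → Prop}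
  {S : Data G X Adj} {k c l Λ d lam μ : ℕ}

theorem eq_one_of_odd_mul_twelve {c₀ : ℤ} (h0 : 0 < c₀) (hodd : Odd c₀) (m : ℤ)
    (h : (c₀ + 2) * m = 12) : c₀ = 1 := by
  have hle := Int.le_of_dvd (by norm_num) (Dvd.intro m h)
  have h2 : c₀ ≤ 10 := by omega
  obtain ⟨w, hw⟩ := hodd
  interval_cases c₀ <;> omega

namespace Nums

variable (N : Nums S k c l Λ d lam μ) (hc : Even c)
include N hc

/-- The case of a far stabiliser of odd order gives ten points. -/
theorem order_odd [Nonempty X] (hΛ : ¬ Even Λ) : Nat.card X = 10 ∧ Nat.card G = 60 := by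
  obtain ⟨A⟩ := ‹Nonempty X›
  obtain ⟨f, ι, ι', hC, hswap, hι, hι', hf0⟩ := N.exists_counts hc
  obtain ⟨c₀, e, hΛc, hce, hle, hc₀0, he0⟩ := N.exists_c0 A
  obtain ⟨Y, hY⟩ := S.exists_far A
  obtain ⟨jj, hjj⟩ := N.c_dvd_pred A
  have hk2 := N.two_le_k A
  have hl0 := N.l_pos A
  have hX := N.card_X
  have hG := N.card_G
  have hlΛ := N.l_mul A
  obtain ⟨a, ha⟩ := N.pfar_dvd_mu A
  have hμ0 := N.mu_pos A
  have hμk := N.mu_lt A
  have hd0 : 0 < d := Nat.pos_of_ne_zero fun h => by
    rw [h, zero_mul] at hΛc; rw [hΛc, zero_mul] at ha; omega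
  have hΛ0 : 0 < Λ := hΛc ▸ Nat.mul_pos hd0 hc₀0
  have ha1 : 1 ≤ a := Nat.pos_of_ne_zero fun h => by rw [h, mul_zero] at ha; omega
  have hk : k = 1 + c * jj := by omega
  obtain ⟨B, -, hB, -, -⟩ := S.exists_two A
  have hlk : lam + 1 ≤ k := by have := N.card_adj_far hB; omega
  have hlam : lam + c * a = c * jj := by
    have he := N.edge_count A
    have h1 : (k - 1 - lam) * Λ = c * μ := Nat.eq_of_mul_eq_mul_left (n := k) (by omega) (by
      calc k * ((k - 1 - lam) * Λ) = (k * (k - 1 - lam)) * Λ := by ring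
        _ = (l * Λ) * μ := by rw [he]; ring
        _ = _ := by rw [hlΛ]; ring)
    have h2 : k - 1 - lam = c * a := Nat.eq_of_mul_eq_mul_right hΛ0 (by rw [h1, ha]; ring)
    omega
  have hf := N.fix_odd hc hC hΛ
  subst hf
  have hv : Nat.card X ≤ 2 + 4 * c := by
    refine Nat.le_of_mul_le_mul_left (c := k) ?_ (by omega)
    calc k * Nat.card X = k * 2 + 2 * (k * ι + l * ι') := hswap
      _ ≤ k * 2 + 2 * (k * c + l * Λ) := by gcongr
      _ = _ := by rw [hlΛ]; ring
  rw [hX, hk] at hv
  have hj1 : 1 ≤ jj := Nat.pos_of_ne_zero fun h => by rw [h, mul_zero] at hk; omega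
  have hj3 : jj ≤ 3 := by
    by_contra h
    have : c * 4 ≤ c * jj := Nat.mul_le_mul_left c (by omega)
    omega
  have hc₀odd : Odd c₀ := by
    rw [Nat.not_even_iff_odd, hΛc, Nat.odd_mul] at hΛ
    exact hΛ.2
  have heven : Even e := by
    rw [hce, Nat.even_mul] at hc
    exact hc.resolve_right (Nat.not_even_iff_odd.2 hc₀odd)
  have hkodd := N.k_odd hc A
  have hdk := N.d_dvd_k A
  have hdodd : Odd d := hkodd.of_dvd_nat hdk
  interval_cases jj
  · -- `j = 1`
    obtain rfl : a = 1 := by
      have : c * a ≤ c * 1 := by omega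
      have := Nat.le_of_mul_le_mul_left this (by have := N.two_le_c A; omega)
      omega
    obtain rfl : lam = 0 := by omega
    rw [mul_one] at ha
    obtain rfl : Λ = μ := ha.symm
    rcases eq_or_ne d 1 with hd | hd
    · subst hd
      rw [one_mul] at hΛc
      obtain rfl : Λ = c₀ := hΛc
      rw [mul_one] at hle
      have he2 : e = 2 := by
        rcases heven with ⟨t, ht⟩
        have : e * k ≤ e * (3 * Λ) := by
          calc e * k = l := by rw [hle, mul_comm]
            _ ≤ 3 * c := by omega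
            _ = _ := by rw [hce]; ring
        have h3 := Nat.le_of_mul_le_mul_left this he0
        by_contra h
        have : 4 * Λ ≤ e * Λ := Nat.mul_le_mul_right Λ (by omega)
        omega
      subst he2
      obtain ⟨g, hg⟩ := N.exists_mult (r := 1) (s := -((Λ : ℤ) + 1))
        (by push_cast; ring) (by rw [hk, hce]; push_cast; ring) (by omega)
      rw [hX, hk, hce, hle, hk, hce] at hg
      push_cast at hg
      have h1 := eq_one_of_odd_mul_twelve (c₀ := (Λ : ℤ)) (by exact_mod_cast hc₀0)
        (by exact_mod_cast hc₀odd) (8 - (g : ℤ)) (by linarith)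
      obtain rfl : Λ = 1 := by exact_mod_cast h1
      rw [hG, hX, hle, hk, hce]
      norm_num
    · exfalso
      have hcd := N.c0_dvd_pred hY hd hΛc fun y hy y' hy' => N.ker_comm hc hy hy'
      obtain ⟨t, ht⟩ := hcd
      obtain ⟨r, hr⟩ := hdk
      have hdr : d ≤ r := Nat.le_of_mul_le_mul_left (hr ▸ N.d_sq_le A) hd0
      have hr3 : r ≤ 3 * c₀ := by
        refine Nat.le_of_mul_le_mul_left (c := e) ?_ he0
        calc e * r = l := by
              refine (Nat.eq_of_mul_eq_mul_right hd0 ?_).symm
              rw [hle, hr]; ring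
          _ ≤ 3 * c := by omega
          _ = _ := by rw [hce]; ring
      have hd1 : d = 1 + c₀ * t := by omega
      have hR : (2 * k : ℤ) + ((Nat.card X : ℤ) - 1) * (((0 : ℕ) : ℤ) - Λ) ≠ 0 := by
        have h3 : (3 : ℤ) ≤ Λ := by
          have hd3 : 3 ≤ d := by obtain ⟨w, hw⟩ := hdodd; omega
          have := Nat.mul_le_mul hd3 (show 1 ≤ c₀ from hc₀0)
          rw [← hΛc] at this
          exact_mod_cast this
        rw [hX]
        push_cast
        nlinarith
      obtain ⟨x, y, hxy, hxy', hx1, -⟩ := N.exists_roots hR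
      -- `r - 1 = u c₀` with `u` even, so `u = 2`
      set u : ℤ := (e : ℤ) - t * r with hu
      have huc : u * c₀ = (r : ℤ) - 1 := by
        have h1 : (d : ℤ) * r = 1 + e * c₀ := by
          rw [hce, mul_one] at hk
          exact_mod_cast hr.symm.trans hk
        rw [hd1] at h1
        push_cast at h1
        rw [hu]
        linarith
      have ht1 : 1 ≤ t := Nat.pos_of_ne_zero fun h => hd (by rw [h, mul_zero] at hd1; omega)
      obtain ⟨w, hw⟩ := id hc₀odd
      obtain ⟨te, hte⟩ : Even t := by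
        by_contra h
        rw [Nat.not_even_iff_odd] at h
        have : Even d := by rw [hd1]; exact (odd_one.add_odd (hc₀odd.mul h))
        exact Nat.not_even_iff_odd.2 hdodd this
      have hrodd : Odd r := hkodd.of_dvd_nat ⟨d, by rw [hr, mul_comm]⟩
      have hu0 : 0 < u := by
        by_contra h
        have : (r : ℤ) - 1 ≤ 0 := huc ▸ mul_nonpos_of_nonpos_of_nonneg (by omega) (by omega)
        have := Nat.mul_le_mul_left c₀ ht1
        omega
      have hu3 : u < 3 := by
        by_contra h
        have := mul_le_mul_of_nonneg_right (show (3 : ℤ) ≤ u by omega) (show (0 : ℤ) ≤ c₀ by omega)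
        omega
      have hu2 : u = 2 := by
        obtain ⟨r', hr'⟩ := hrodd
        interval_cases u <;> omega
      rw [hu2] at huc
      obtain rfl : t = 2 := by
        by_contra h
        have := Nat.mul_le_mul_left c₀ (show 4 ≤ t by omega)
        omega
      -- `k = d ^ 2`, `Λ = d c₀`
      have hrd : r = d := by omega
      subst hrd
      have hΛd : (Λ : ℤ) = r * c₀ := by exact_mod_cast hΛc
      have hkd : (k : ℤ) = r * r := by exact_mod_cast hr
      have hd' : (r : ℤ) = 1 + 2 * c₀ := by omega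
      have hy : y = -(Λ : ℤ) - x := by push_cast at hxy; linarith
      subst hy
      rcases eq_or_lt_of_le hx1 with hx | hx
      · rw [← hx, hkd, hΛd, hd'] at hxy'
        nlinarith
      · rw [hkd, hΛd, hd'] at hxy'
        have h1 := mul_le_mul_of_nonneg_right (show (2 : ℤ) ≤ x by omega)
          (mul_nonneg (show (0 : ℤ) ≤ 1 + 2 * c₀ by omega) (show (0 : ℤ) ≤ c₀ by omega))
        have h2 := mul_le_mul_of_nonneg_left (show (1 : ℤ) ≤ c₀ by omega)
          (show (0 : ℤ) ≤ 1 + 2 * c₀ by omega)
        nlinarith [mul_self_nonneg x]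
  · -- `j = 2`
    exfalso
    have h2l : k ≤ 2 * Λ := by
      refine Nat.le_of_mul_le_mul_left (c := c) ?_ (by have := N.two_le_c A; omega)
      calc c * k = l * Λ := by rw [hlΛ, mul_comm]
        _ ≤ (2 * c) * Λ := Nat.mul_le_mul_right Λ (by omega)
        _ = _ := by ring
    obtain rfl : a = 1 := by
      by_contra h
      have : Λ * 2 ≤ Λ * a := Nat.mul_le_mul_left Λ (by omega)
      omega
    rcases eq_or_ne d 1 with hd | hd
    · rw [hd, one_mul] at hΛc
      have : c₀ ≤ c := by rw [hce]; exact Nat.le_mul_of_pos_left c₀ he0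
      omega
    · obtain ⟨t, ht⟩ := N.c0_dvd_pred hY hd hΛc fun y hy y' hy' => N.ker_comm hc hy hy'
      have hd1 : d = 1 + c₀ * t := by omega
      have hed : e < d := by
        by_contra h
        have : d * c₀ ≤ e * c₀ := Nat.mul_le_mul_right c₀ (by omega)
        omega
      obtain ⟨r, hr⟩ := hdk
      have h1 : (d : ℤ) ∣ (c₀ : ℤ) * (2 * e - t) := by
        refine ⟨(r : ℤ) - 1, ?_⟩
        have h1 : (d : ℤ) * r = 1 + e * c₀ * 2 := by
          rw [hce] at hk
          exact_mod_cast hr.symm.trans hk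
        have hd1' : (d : ℤ) = 1 + c₀ * t := by exact_mod_cast hd1
        linear_combination -h1 + hd1'
      have h2 : IsCoprime (d : ℤ) (c₀ : ℤ) := ⟨1, -(t : ℤ), by rw [hd1]; push_cast; ring⟩
      obtain ⟨q, hq⟩ := h2.dvd_of_dvd_mul_left h1
      obtain ⟨te, hte⟩ : Even t := by
        by_contra h
        rw [Nat.not_even_iff_odd] at h
        have : Even d := by rw [hd1]; exact (odd_one.add_odd (hc₀odd.mul h))
        exact Nat.not_even_iff_odd.2 hdodd this
      obtain ⟨dd, hdd⟩ := hdodd
      obtain ⟨ee, hee⟩ := heven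
      have htd : t ≤ d := by
        have := Nat.le_mul_of_pos_left t hc₀0
        omega
      have hq1 : -1 ≤ q ∧ q ≤ 1 := by
        constructor
        · by_contra h
          have := mul_le_mul_of_nonneg_left (show q ≤ -2 by omega) (show (0 : ℤ) ≤ d by omega)
          omega
        · by_contra h
          have := mul_le_mul_of_nonneg_left (show 2 ≤ q by omega) (show (0 : ℤ) ≤ d by omega)
          omega
      obtain rfl : q = 0 := by
        rcases show q = -1 ∨ q = 0 ∨ q = 1 by omega with h | h | h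
        · subst h; omega
        · exact h
        · subst h; omega
      rw [mul_zero] at hq
      have hte' : t = 2 * e := by omega
      have hkd : k = d := by rw [hk, hd1, hce, hte']; ring
      have := N.d_lt hc A
      omega
  · -- `j = 3`
    exfalso
    have : l * Λ ≤ c * Λ := Nat.mul_le_mul_right Λ (by omega)
    have h2 : c * k ≤ c * Λ := by rw [mul_comm c k, ← hlΛ]; exact this
    have := Nat.le_of_mul_le_mul_left h2 (by have := N.two_le_c A; omega)
    have : Λ ≤ Λ * a := Nat.le_mul_of_pos_right Λ ha1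
    omega

/-- The case of a far stabiliser of even order gives sixteen points. -/
theorem order_even [Nonempty X] (hΛ : Even Λ) :
    Nat.card X = 16 ∧ (Nat.card G = 576 ∨ Nat.card G = 320) := by
  obtain ⟨A⟩ := ‹Nonempty X›
  obtain ⟨f, ι, ι', hC, hswap, hι, hι', hf0⟩ := N.exists_counts hc
  obtain ⟨c₀, e, hΛc, hce, hle, hc₀0, he0⟩ := N.exists_c0 A
  obtain ⟨Y, hY⟩ := S.exists_far A
  obtain ⟨jj, hjj⟩ := N.c_dvd_pred A
  have hk2 := N.two_le_k A
  have hX := N.card_X
  have hG := N.card_G
  have hlΛ := N.l_mul A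
  obtain ⟨a, ha⟩ := N.pfar_dvd_mu A
  have hμ0 := N.mu_pos A
  have hμk := N.mu_lt A
  have hΛ0 : 0 < Λ := N.card_pfar hY ▸ Nat.card_pos
  have hd0 : 0 < d := N.card_D hY ▸ Nat.card_pos
  have ha1 : 1 ≤ a := Nat.pos_of_ne_zero fun h => by rw [h, mul_zero] at ha; omega
  have hk : k = 1 + c * jj := by omega
  obtain ⟨B, -, hB, -, -⟩ := S.exists_two A
  have hlk : lam + 1 ≤ k := by have := N.card_adj_far hB; omega
  have hlam : lam + c * a = c * jj := by
    have he := N.edge_count A
    have h1 : (k - 1 - lam) * Λ = c * μ := Nat.eq_of_mul_eq_mul_left (n := k) (by omega) (by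
      calc k * ((k - 1 - lam) * Λ) = (k * (k - 1 - lam)) * Λ := by ring
        _ = (l * Λ) * μ := by rw [he]; ring
        _ = _ := by rw [hlΛ]; ring)
    have h2 : k - 1 - lam = c * a := Nat.eq_of_mul_eq_mul_right hΛ0 (by rw [h1, ha]; ring)
    omega
  have hja : a ≤ jj := Nat.le_of_mul_le_mul_left (c := c) (by omega) (by have := N.two_le_c A; omega)
  have hf := N.fix_even hc hC hΛ hle
  subst hf
  have hkodd := N.k_odd hc A
  have hdk := N.d_dvd_k A
  have hdodd : Odd d := hkodd.of_dvd_nat hdk
  have hc₀ev : Even c₀ := by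
    rw [hΛc, Nat.even_mul] at hΛ
    exact hΛ.resolve_left (Nat.not_even_iff_odd.2 hdodd)
  have hc₀2 : 2 ≤ c₀ := by obtain ⟨w, hw⟩ := hc₀ev; omega
  have hXz : (Nat.card X : ℤ) = 1 + k + l := by exact_mod_cast hX
  have hlamz : (lam : ℤ) + c * a = c * jj := by exact_mod_cast hlam
  rcases eq_or_ne d 1 with hd | hd
  · subst hd
    rw [one_mul] at hΛc
    obtain rfl : Λ = c₀ := hΛc
    rw [mul_one] at hle
    obtain ⟨δ, hδ, i, rfl⟩ := N.exists_delta hc hC hΛ rfl (e := e) (by rw [mul_one]; exact hle)
    have hμz : (μ : ℤ) = a * Λ := by rw [ha]; push_cast; ring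
    have hlam' : (lam : ℤ) = ((jj : ℤ) - a) * (e * Λ) := by
      rw [hce] at hlamz
      push_cast at hlamz
      linarith
    have hkz : (k : ℤ) = 1 + jj * e * Λ := by rw [hk, hce]; push_cast; ring
    have hlz : (l : ℤ) = k * e := by exact_mod_cast hle
    have hR : (2 * k : ℤ) + ((Nat.card X : ℤ) - 1) * ((lam : ℤ) - μ) ≠ 0 := by
      intro h
      have h1 : (k : ℤ) * (2 + (1 + e) * ((lam : ℤ) - μ)) = 0 := by
        rw [hXz, hlz] at h
        linarith
      rcases mul_eq_zero.1 h1 with h2 | h2
      · omega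
      obtain ⟨w, hw⟩ := hc₀ev
      have h3 : (1 + (e : ℤ)) * ((((jj : ℤ) - a) * e - a) * w) = -1 := by
        rw [hlam', hμz, hw] at h2
        push_cast at h2
        linarith
      have := Int.le_of_dvd (b := 1) (by norm_num)
        ⟨-((((jj : ℤ) - a) * e - a) * w), by rw [mul_neg, h3, neg_neg]⟩
      omega
    obtain ⟨r, s, hrs, hrs', hr, hs⟩ := N.exists_roots hR
    obtain ⟨g, hg⟩ := N.exists_mult hrs hrs' (by omega)
    obtain ⟨q, hq⟩ := N.exists_trace_T hc hC hΛ hrs hrs' (by omega)
    have hsw : Nat.card X = (e + 2) + (e + 2) * (ι + e * ι') :=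
      Nat.eq_of_mul_eq_mul_left (n := k) (by omega) (by rw [hswap, hle]; ring)
    have hswz : (Nat.card X : ℤ) = ((e : ℤ) + 2) + (e + 2) * (ι + e * ι') := by
      exact_mod_cast hsw
    have hδz : ((e : ℤ) + 2) * ι = lam + e * (Λ * i) := by exact_mod_cast hδ
    push_cast at hq
    have hcoset : ((3 : ℤ) * Λ < 4 * ι' ∨ ((Λ : ℤ) = 4 ∧ (Λ : ℤ) < 2 * ι')) → (ι' : ℤ) = Λ := by
      intro h
      exact_mod_cast N.iota'_eq hc hC hΛ rfl (by exact_mod_cast h)
    obtain ⟨h2, he2, hj1⟩ := arith_one (c₀ := (Λ : ℤ)) (e := e) (j := jj) (a := a) (k := k)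
      (lam := lam) (μ := μ) (ι := ι) (ι' := ι') (i := i) (r := r) (s := s) (g := g) (q := q)
      (by exact_mod_cast hc₀2) (by exact_mod_cast hc₀ev) (by exact_mod_cast he0)
      (by exact_mod_cast ha1) (by exact_mod_cast hja) hkz hlam' hμz
      (by rw [hXz, hlz, hkz] at hswz; linarith)
      (by exact_mod_cast (hce ▸ hι : ι ≤ e * Λ)) (by exact_mod_cast hι') (by positivity)
      (by positivity) (by positivity) (by linarith) hrs hrs' hr
      (by rw [hg, hXz, hlz]; ring) hq (by positivity) hcoset
    obtain rfl : Λ = 2 := by exact_mod_cast h2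
    obtain rfl : e = 2 := by exact_mod_cast he2
    obtain rfl : jj = 1 := by exact_mod_cast hj1
    rw [hG, hX, hle, hk, hce]
    norm_num
  · obtain ⟨W, hW, hkW⟩ := N.exists_bound hc hΛ hd hΛc
    have hd3 : 3 ≤ d := by obtain ⟨w, hw⟩ := hdodd; omega
    have hdW : d ≤ W + 2 := Nat.le_of_mul_le_mul_right ((N.d_sq_le A).trans hkW) hd0
    have hW1 : 1 ≤ W := by omega
    obtain rfl : c₀ = 2 := by
      by_contra h
      have := Nat.mul_le_mul_right W (show 3 ≤ c₀ by omega)
      omega
    obtain rfl : W = 1 := by omega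
    obtain rfl : d = 3 := by omega
    obtain rfl : k = 9 := by have := N.d_sq_le A; omega
    obtain rfl : a = 1 := by
      rw [hΛc] at ha
      omega
    have hje : e * jj = 4 := by
      rw [hce, mul_comm e 2, mul_assoc] at hk
      omega
    have hje' : e ∣ 4 := Dvd.intro jj hje
    have hμz : (μ : ℤ) = 6 := by rw [ha, hΛc]; norm_num
    have he4 := Nat.le_of_dvd (by norm_num) hje'
    have hl : l = 3 * e := by omega
    interval_cases e
    · -- `e = 1`
      exfalso
      obtain rfl : jj = 4 := by omega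
      have hlam6 : lam = 6 := by omega
      subst hlam6
      obtain ⟨r, s, hrs, hrs', hr, -⟩ := N.exists_roots (by rw [hX, hl, hμz]; norm_num)
      rw [hμz] at hrs hrs'
      push_cast at hrs hrs'
      obtain rfl : s = -r := by omega
      have : r ≤ 3 := by nlinarith
      interval_cases r <;> omega
    · obtain rfl : jj = 2 := by omega
      rw [hG, hX, hl, hce]
      norm_num
    · omega
    · exfalso
      obtain rfl : jj = 1 := by omega
      have hlam0 : lam = 0 := by omega
      subst hlam0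
      obtain ⟨r, s, hrs, hrs', hr, -⟩ := N.exists_roots (by rw [hX, hl, hμz]; norm_num)
      rw [hμz] at hrs hrs'
      push_cast at hrs hrs'
      nlinarith

end Nums

end Cfsg.Agent.RankThreeFrob
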