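/-
Rank three actions with a Frobenius suborbit: the complement has even order.

If it had odd order, the central involutions of the kernels would give lines through pairwise
non-adjacent points, forcing `k = 2 q ^ 2` with `3 ∣ k - 1`.

Main result (namespace `Cfsg.Agent.RankThreeFrob`): `Nums.even_c`.
-/
import Cfsg.Agent.Lib.RankThreeFrob.Setup
import Cfsg.Agent.Lib.Cores.Fitting

set_option autoImplicit false
set_option linter.style.haveILetI false
set_option linter.unusedSectionVars false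

namespace Cfsg.Agent.RankThreeFrob

open MulAction

variable {G X : Type*} [Group G] [MulAction G X] [Finite G] {Adj : X → X → Prop}

/-- The central elements of order at most two of the kernel of `P`. -/
noncomputable def Data.Z0 (S : Data G X Adj) (P : X) : Subgroup G where
  carrier := {g | g ∈ S.ker P ∧ g * g = 1 ∧ ∀ y ∈ S.ker P, Commute g y}
  one_mem' := ⟨one_mem _, one_mul 1, fun y _ => Commute.one_left y⟩
  mul_mem' := fun {a b} ha hb => ⟨mul_mem ha.1 hb.1, by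
      calc a * b * (a * b) = a * (b * a) * b := by group
        _ = a * (a * b) * b := by rw [(ha.2.2 b hb.1).eq]
        _ = (a * a) * (b * b) := by group
        _ = 1 := by rw [ha.2.1, hb.2.1, one_mul],
    fun y hy => (ha.2.2 y hy).mul_left (hb.2.2 y hy)⟩
  inv_mem' := fun {a} ha => ⟨inv_mem ha.1, by rw [← mul_inv_rev, ha.2.1, inv_one],
    fun y hy => (ha.2.2 y hy).inv_left⟩

namespace Data

variable (S : Data G X Adj) {P : X}
include S

theorem mem_Z0 {g : G} : g ∈ S.Z0 P ↔ g ∈ S.ker P ∧ g * g = 1 ∧ ∀ y ∈ S.ker P, Commute g y :=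
  Iff.rfl

theorem conj_Z0_mem {g z : G} (hz : z ∈ S.Z0 P) : g * z * g⁻¹ ∈ S.Z0 (g • P) := by
  refine ⟨S.conj_ker_mem hz.1, ?_, fun y hy => ?_⟩
  · calc g * z * g⁻¹ * (g * z * g⁻¹) = g * (z * z) * g⁻¹ := by group
      _ = 1 := by rw [hz.2.1]; group
  · have h1 : g⁻¹ * y * g ∈ S.ker P := by
      have := S.conj_ker_mem (g := g⁻¹) hy
      rwa [inv_smul_smul, inv_inv] at this
    show g * z * g⁻¹ * y = y * (g * z * g⁻¹)
    calc g * z * g⁻¹ * y = g * (z * (g⁻¹ * y * g)) * g⁻¹ := by group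
      _ = g * ((g⁻¹ * y * g) * z) * g⁻¹ := by rw [(hz.2.2 _ h1).eq]
      _ = _ := by group

theorem conj_Z0_self {g z : G} (hg : g • P = P) (hz : z ∈ S.Z0 P) :
    g * z * g⁻¹ ∈ S.Z0 P := by
  have := S.conj_Z0_mem (g := g) hz
  rwa [hg] at this

theorem card_Z0_smul (g : G) (P : X) : Nat.card (S.Z0 (g • P)) = Nat.card (S.Z0 P) :=
  (Nat.card_congr ((MulAut.conj g).toEquiv.subtypeEquiv fun x => by
    simp only [MulEquiv.toEquiv_eq_coe, EquivLike.coe_coe, MulAut.conj_apply]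
    refine ⟨S.conj_Z0_mem, fun h => ?_⟩
    have := S.conj_Z0_mem (g := g⁻¹) h
    rwa [inv_smul_smul, show g⁻¹ * (g * x * g⁻¹) * g⁻¹⁻¹ = x by group] at this)).symm

end Data

namespace Nums

variable [Finite X] {S : Data G X Adj} {k c l Λ d lam μ : ℕ}
  (N : Nums S k c l Λ d lam μ) {A Y : X}
include N

theorem Z0_ne_bot (hk : Even k) (A : X) : S.Z0 A ≠ ⊥ := by
  classical
  haveI := S.isNilpotent_ker (P := A)
  haveI : Fact (Nat.Prime 2) := ⟨Nat.prime_two⟩
  set P := (default : Sylow 2 (S.ker A))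
  have hn : (P : Subgroup (S.ker A)).Normal :=
    P.normal_of_normalizerCondition Group.normalizerCondition_of_isNilpotent
  have hne : (P : Subgroup (S.ker A)) ≠ ⊥ := fun h => by
    have := P.dvd_card_of_dvd_card (by rw [N.card_ker A]; exact even_iff_two_dvd.1 hk)
    rw [h, Subgroup.card_bot] at this
    exact absurd this (by norm_num)
  have hI := Cores.inf_center_ne_bot (P : Subgroup (S.ker A)) hne
  set I := (P : Subgroup (S.ker A)) ⊓ Subgroup.center (S.ker A)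
  have hIp : IsPGroup 2 I := P.2.to_le inf_le_left
  obtain ⟨n, hn'⟩ := hIp.exists_card_eq
  have h2 : 2 ∣ Nat.card I := by
    rw [hn']
    refine dvd_pow_self 2 fun h0 => hI ?_
    rw [h0, pow_zero] at hn'
    exact Subgroup.card_eq_one.1 hn'
  obtain ⟨u, hu⟩ := exists_prime_orderOf_dvd_card' 2 h2
  intro hbot
  have hu1 : ((u : S.ker A) : G) ∈ S.Z0 A := by
    refine ⟨(u : S.ker A).2, ?_, fun y hy => ?_⟩
    · rw [← sq, ← hu, ← Subgroup.coe_pow, ← Subgroup.coe_pow, pow_orderOf_eq_one]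
      rfl
    · exact congrArg Subtype.val (Subgroup.mem_center_iff.1 u.2.2 ⟨y, hy⟩).symm
  rw [hbot, Subgroup.mem_bot] at hu1
  rw [show u = 1 from Subtype.ext (Subtype.ext hu1), orderOf_one] at hu
  norm_num at hu

theorem c_lt_Z0 (hk : Even k) (A : X) : c < Nat.card (S.Z0 A) := by
  classical
  obtain ⟨⟨z, hz⟩, hz1⟩ := Subgroup.ne_bot_iff_exists_ne_one.1 (N.Z0_ne_bot hk A)
  have hz1' : z ≠ 1 := fun h => hz1 (Subtype.ext h)
  obtain ⟨B, -, hB, -, -⟩ := S.exists_two A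
  haveI := Fintype.ofFinite (pst G A B)
  haveI := Fintype.ofFinite (S.Z0 A)
  rw [← N.card_pst hB, Nat.card_eq_fintype_card, Nat.card_eq_fintype_card]
  refine Fintype.card_lt_of_injective_of_notMem
    (fun x => (⟨(x : G) * z * (x : G)⁻¹, S.conj_Z0_self x.2.1 hz⟩ : S.Z0 A)) ?_ (b := 1) ?_
  · intro x y e
    have e' : (x : G) * z * (x : G)⁻¹ = y * z * (y : G)⁻¹ := congrArg Subtype.val e
    by_contra hne
    apply hz1'
    have hc : Commute ((y : G)⁻¹ * x) z := by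
      show (y : G)⁻¹ * x * z = z * ((y : G)⁻¹ * x)
      calc (y : G)⁻¹ * x * z = (y : G)⁻¹ * (x * z * (x : G)⁻¹) * x := by group
        _ = _ := by rw [e']; group
    have hm := (pst G A B).mul_mem ((pst G A B).inv_mem y.2) x.2
    by_contra hz'
    have h1 := S.mem_ker_of_commute hm.1 hz.1 hz' hc
    exact hne (Subtype.ext (inv_mul_eq_one.1 (S.ker_moves h1 hB hm.2)).symm)
  · rintro ⟨x, hx⟩
    have e' : (x : G) * z * (x : G)⁻¹ = 1 := congrArg Subtype.val hx
    exact hz1' (by simpa using e')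

theorem exists_move (hk : Even k) (hA : Far Adj A Y) : ∃ v ∈ S.Z0 A, v • Y ≠ Y := by
  by_contra h
  push Not at h
  refine S.not_far_trans fun P Q R hQ hR => ?_
  have key : ∀ Q, Far Adj P Q → ∀ z ∈ S.Z0 P, z • Q = Q := by
    intro Q hQ z hz
    obtain ⟨g, rfl, rfl⟩ := S.trans_far hA hQ
    have h1 : g⁻¹ * z * g ∈ S.Z0 A := by
      have := S.conj_Z0_mem (g := g⁻¹) hz
      rwa [inv_smul_smul, inv_inv] at this
    have h2 := h _ h1
    rwa [mul_smul, mul_smul, inv_smul_eq_iff] at h2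
  obtain ⟨⟨z, hz⟩, hz1⟩ := Subgroup.ne_bot_iff_exists_ne_one.1 (N.Z0_ne_bot hk P)
  rcases Data.cases3 (Adj := Adj) Q R with h' | h' | h'
  · exact Or.inl h'
  · exact absurd h' (N.not_adj_of_fix hz.1 (fun e => hz1 (Subtype.ext e)) (key Q hQ z hz)
      (key R hR z hz))
  · exact Or.inr h'

/-- A central involution at `A` outside `D` fixes only `A` among the fixed points of `D`. -/
theorem fix_eq {v : G} (hv : v ∈ S.ker A) (hA : Far Adj A Y) (hvY : v • Y ≠ Y) {R : X}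
    (hD : ∀ y ∈ S.ker A, y • Y = Y → y • R = R) (hR : v • R = R) : R = A := by
  by_contra hne
  have hv1 : v ≠ 1 := fun h => hvY (by rw [h, one_smul])
  have hfar : Far Adj A R := ⟨fun e => hne e.symm, N.not_adj_of_fix hv hv1 (S.ker_fix hv) hR⟩
  have hle : S.ker A ⊓ stabilizer G Y ≤ S.ker A ⊓ stabilizer G R :=
    fun y hy => ⟨hy.1, hD y hy.1 hy.2⟩
  have := Subgroup.eq_of_le_of_card_ge hle (by rw [N.card_D hA, N.card_D hfar])
  exact hvY ((this ▸ (⟨hv, hR⟩ : v ∈ S.ker A ⊓ stabilizer G R) :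
    v ∈ S.ker A ⊓ stabilizer G Y).2)

theorem pow_two_mem (hc : Odd c) (hA : Far Adj A Y) {v t : G} (hv : v ∈ S.Z0 A) (ht : t ∈ S.Z0 Y)
    (hvY : v • Y ≠ Y) (htA : t • A ≠ A) :
    ∀ (n : ℕ) (y : G), v * y * v = y⁻¹ → t * y * t = y⁻¹ →
      (∀ e ∈ S.ker A, e • Y = Y → Commute y e) → y ^ 2 ^ n = 1 →
      y ∈ S.ker A ∧ y • Y = Y := by
  intro n
  induction n with
  | zero =>
    intro y _ _ _ h
    rw [pow_zero, pow_one] at h
    subst h
    exact ⟨one_mem _, one_smul _ _⟩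
  | succ n ih =>
    intro y hy1 hy2 hcomm hpow
    obtain ⟨h2A, h2Y⟩ := ih (y * y) (by
        calc v * (y * y) * v = (v * y * v) * (v * y * v) := by
              rw [show v * y * v * (v * y * v) = v * y * (v * v) * y * v by group, hv.2.1]; group
          _ = _ := by rw [hy1, mul_inv_rev]) (by
        calc t * (y * y) * t = (t * y * t) * (t * y * t) := by
              rw [show t * y * t * (t * y * t) = t * y * (t * t) * y * t by group, ht.2.1]; group
          _ = _ := by rw [hy2, mul_inv_rev])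
      (fun e he he' => (hcomm e he he').mul_left (hcomm e he he'))
      (by rw [← sq, ← pow_mul, mul_comm, ← pow_succ, hpow])
    have hA' : (y * y) • A = A := S.ker_fix h2A
    have hyA : y • A = A := by
      refine N.fix_eq hv.1 hA hvY (fun e he he' => ?_) ?_
      · rw [← mul_smul, ← (hcomm e he he').eq, mul_smul, S.ker_fix he]
      · rw [← mul_smul, show v * y = y * (y * y)⁻¹ * v by
            calc v * y = v * y * (v * v) := by rw [hv.2.1, mul_one]
              _ = v * y * v * v := by group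
              _ = y⁻¹ * v := by rw [hy1]
              _ = _ := by group,
          mul_smul, S.ker_fix hv.1, mul_smul, inv_smul_eq_iff.2 hA'.symm]
    have hyY : y • Y = Y := by
      refine N.fix_eq ht.1 (S.far_symm hA) htA (fun e he he' => ?_) ?_
      · rw [← mul_smul, ← (hcomm e (N.mem_ker_of_fix he he') (S.ker_fix he)).eq, mul_smul,
          S.ker_fix he]
      · rw [← mul_smul, show t * y = y * (y * y)⁻¹ * t by
            calc t * y = t * y * (t * t) := by rw [ht.2.1, mul_one]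
              _ = t * y * t * t := by group
              _ = y⁻¹ * t := by rw [hy2]
              _ = _ := by group,
          mul_smul, S.ker_fix ht.1, mul_smul, inv_smul_eq_iff.2 h2Y.symm]
    refine ⟨?_, hyY⟩
    rw [S.mem_ker]
    refine ⟨hyA, or_iff_not_imp_left.2 fun h1 Q hQ hyQ => h1 ?_⟩
    rw [← orderOf_eq_one_iff]
    exact Nat.eq_one_of_dvd_coprimes ((Nat.coprime_two_left.2 hc).pow_left (n + 1))
      (orderOf_dvd_of_pow_eq_one hpow)
      (N.card_pst hQ ▸ Subgroup.orderOf_dvd_natCard _ (mem_pst.2 ⟨hyA, hyQ⟩))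

/-- The central involutions at two far points are conjugate modulo `D` by an element exchanging
the points and centralising `D`. -/
theorem mid (hc : Odd c) (hA : Far Adj A Y) {v t : G} (hv : v ∈ S.Z0 A) (ht : t ∈ S.Z0 Y)
    (hvY : v • Y ≠ Y) (htA : t • A ≠ A) :
    ∃ y m : G, y ∈ S.ker A ∧ y • Y = Y ∧ m * m = 1 ∧ m • A = Y ∧
      (∀ e ∈ S.ker A, e • Y = Y → Commute m e) ∧ m * v * m = y * t := by
  have hvv := hv.2.1
  have htt := ht.2.1
  set r := v * t with hr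
  have hrinv : r⁻¹ = t * v := by
    rw [hr, mul_inv_rev, inv_eq_of_mul_eq_one_right hvv, inv_eq_of_mul_eq_one_right htt]
  have hrv : ∀ j : ℕ, v * r ^ j = (r ^ j)⁻¹ * v := by
    intro j
    induction j with
    | zero => simp
    | succ j ih =>
      rw [pow_succ, ← mul_assoc, ih, mul_inv_rev, mul_assoc, mul_assoc]
      have e2 : r⁻¹ * (r ^ j)⁻¹ = (r ^ j)⁻¹ * r⁻¹ := by
        rw [← mul_inv_rev, ← mul_inv_rev, ← pow_succ, ← pow_succ']
      rw [← mul_assoc r⁻¹, e2, mul_assoc, hrinv, hr]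
      congr 1
      calc v * (v * t) = (v * v) * t := by group
        _ = t * (v * v) := by rw [hvv, one_mul, mul_one]
        _ = t * v * v := by group
  have hrt : ∀ j : ℕ, t * r ^ j = (r ^ j)⁻¹ * t := by
    intro j
    induction j with
    | zero => simp
    | succ j ih =>
      rw [pow_succ, ← mul_assoc, ih, mul_inv_rev, mul_assoc, mul_assoc]
      have e2 : r⁻¹ * (r ^ j)⁻¹ = (r ^ j)⁻¹ * r⁻¹ := by
        rw [← mul_inv_rev, ← mul_inv_rev, ← pow_succ, ← pow_succ']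
      rw [← mul_assoc r⁻¹, e2, mul_assoc, hrinv, hr]
      congr 1
      group
  have hcomm : ∀ e ∈ S.ker A, e • Y = Y → Commute r e := fun e he he' =>
    (hv.2.2 e he).mul_left (ht.2.2 e (N.mem_ker_of_fix he he'))
  obtain ⟨a, m, hmodd, hord⟩ := Nat.exists_eq_two_pow_mul_odd (orderOf_pos r).ne'
  obtain ⟨n, hn⟩ := hmodd
  set y := r ^ m with hy
  obtain ⟨hyA, hyY⟩ := N.pow_two_mem hc hA hv ht hvY htA a y
    (by rw [hrv m, mul_assoc, hvv, mul_one]) (by rw [hrt m, mul_assoc, htt, mul_one])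
    (fun e he he' => (hcomm e he he').pow_left m)
    (by rw [hy, ← pow_mul, mul_comm, ← hord, pow_orderOf_eq_one])
  set h := r ^ n with hh
  have hconj : h * v * h⁻¹ = y * t := by
    have e1 : v * h⁻¹ = h * v := by
      have := hrv n
      rw [← hh] at this
      calc v * h⁻¹ = h * (h⁻¹ * v) * h⁻¹ := by group
        _ = h * (v * h) * h⁻¹ := by rw [this]
        _ = h * v := by group
    rw [mul_assoc, e1, ← mul_assoc, hy, hn, pow_succ, two_mul, pow_add, ← hh, mul_assoc (h * h),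
      hr]
    rw [mul_assoc v, htt, mul_one]
  have hhY : h⁻¹ • Y = A := by
    refine N.fix_eq hv.1 hA hvY (fun e he he' => ?_) ?_
    · rw [← mul_smul, ← ((hcomm e he he').pow_left n).inv_left.eq, mul_smul, he']
    · have : (h * v * h⁻¹) • Y = Y := by rw [hconj, mul_smul, S.ker_fix ht.1, hyY]
      rwa [mul_smul, mul_smul, ← eq_inv_smul_iff] at this
  have hhA : h • A = Y := by rw [← hhY, smul_inv_smul]
  refine ⟨y, h * v, hyA, hyY, ?_, by rw [mul_smul, S.ker_fix hv.1, hhA],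
    fun e he he' => ((hcomm e he he').pow_left n).mul_left (hv.2.2 e he), ?_⟩
  · rw [mul_assoc, ← mul_assoc v h, hh, hrv n, ← hh]
    calc h * (h⁻¹ * v * v) = h * h⁻¹ * (v * v) := by group
      _ = 1 := by rw [hvv, mul_inv_cancel, one_mul]
  · calc h * v * v * (h * v) = h * (v * v) * (h * v) := by group
      _ = h * (h * v) := by rw [hvv, mul_one]
      _ = h * v * h⁻¹ := by
          rw [mul_assoc h v h⁻¹]
          congr 1
          have := hrv n
          rw [← hh] at this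
          calc h * v = h * v * h * h⁻¹ := by group
            _ = h * (h⁻¹ * v) * h⁻¹ := by rw [mul_assoc h v h, this]
            _ = v * h⁻¹ := by group
      _ = y * t := hconj

theorem exists_move_symm (hk : Even k) (hA : Far Adj A Y) : ∃ t ∈ S.Z0 Y, t • A ≠ A :=
  N.exists_move hk (S.far_symm hA)

/-- The kernels of far points meet non-trivially. -/
theorem d_ne_one (hc : Odd c) (hk : Even k) (hA : Far Adj A Y) :
    S.ker A ⊓ stabilizer G Y ≠ ⊥ := by
  classical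
  intro hbot
  have hdisj : ∀ y ∈ S.ker A, y • Y = Y → y = 1 := fun y h h' => by
    have : y ∈ S.ker A ⊓ stabilizer G Y := ⟨h, h'⟩
    rwa [hbot, Subgroup.mem_bot] at this
  have hd1 : d = 1 := by rw [← N.card_D hA, hbot, Subgroup.card_bot]
  obtain ⟨t, ht, htA⟩ := N.exists_move_symm hk hA
  have htr : ∀ v ∈ S.Z0 A, v ≠ 1 → ∀ v' ∈ S.Z0 A, v' ≠ 1 →
      ∃ q ∈ pst G A Y, q * v * q⁻¹ = v' := by
    intro v hv hv1 v' hv' hv'1
    obtain ⟨y, m, hy, hyY, hmm, hmA, -, hm⟩ :=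
      N.mid hc hA hv ht (fun e => hv1 (hdisj v hv.1 e)) htA
    obtain ⟨y', m', hy', hyY', hmm', hmA', -, hm'⟩ :=
      N.mid hc hA hv' ht (fun e => hv'1 (hdisj v' hv'.1 e)) htA
    rw [hdisj y hy hyY, one_mul] at hm
    rw [hdisj y' hy' hyY', one_mul] at hm'
    refine ⟨m' * m, ⟨?_, ?_⟩, ?_⟩
    · show (m' * m) • A = A
      rw [mul_smul, hmA, ← hmA', ← mul_smul, hmm', one_smul]
    · show (m' * m) • Y = Y
      rw [mul_smul, show m • Y = A by rw [← hmA, ← mul_smul, hmm, one_smul], hmA']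
    · rw [mul_inv_rev, inv_eq_of_mul_eq_one_right hmm, inv_eq_of_mul_eq_one_right hmm']
      calc m' * m * v * (m * m') = m' * (m * v * m) * m' := by group
        _ = m' * (m' * v' * m') * m' := by rw [hm, hm']
        _ = (m' * m') * v' * (m' * m') := by group
        _ = v' := by rw [hmm']; group
  obtain ⟨⟨v, hv⟩, hv1⟩ := Subgroup.ne_bot_iff_exists_ne_one.1 (N.Z0_ne_bot hk A)
  have hv1' : v ≠ 1 := fun h => hv1 (Subtype.ext h)
  haveI := Fintype.ofFinite (S.Z0 A)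
  have hΛc : c ≤ Λ := by
    have h1 := N.c_lt_Z0 hk A
    have h2 : Nat.card (S.Z0 A) ≤ Λ + 1 := by
      rw [← N.card_pfar hA, ← Finite.card_option]
      refine Nat.card_le_card_of_surjective (fun o : Option (pst G A Y) => o.elim (1 : S.Z0 A)
        fun q => ⟨(q : G) * v * (q : G)⁻¹, S.conj_Z0_self q.2.1 hv⟩) ?_
      rintro ⟨v', hv'⟩
      by_cases h' : v' = 1
      · exact ⟨none, Subtype.ext h'.symm⟩
      · obtain ⟨q, hq, e⟩ := htr v hv hv1' v' hv' h'
        exact ⟨some ⟨q, hq⟩, Subtype.ext e⟩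
    omega
  have hlk : l ≤ k := by
    have h1 := N.l_mul A
    have h2 : l * c ≤ k * c := by rw [← h1]; exact Nat.mul_le_mul le_rfl hΛc
    exact Nat.le_of_mul_le_mul_right h2 (by have := N.two_le_c A; omega)
  have hbij : Function.Bijective (fun y : S.ker A => (⟨(y : G) • Y, by
      have := S.far_smul (y : G) hA
      rwa [S.ker_fix y.2] at this⟩ : {Q // Far Adj A Q})) := by
    refine Function.Injective.bijective_of_nat_card_le (fun a b e => ?_) (by
      rw [N.card_far, N.card_ker]; exact hlk)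
    have e' : (a : G) • Y = (b : G) • Y := congrArg Subtype.val e
    exact Subtype.ext (inv_mul_eq_one.1 (hdisj ((b : G)⁻¹ * a)
      (mul_mem (inv_mem b.2) a.2) (by rw [mul_smul, e', inv_smul_smul]))).symm
  obtain ⟨⟨g, hg⟩, hg1⟩ := Subgroup.ne_bot_iff_exists_ne_one.1
    (show pst G A Y ≠ ⊥ from fun h => by
      have := N.card_pfar hA
      rw [h, Subgroup.card_bot] at this
      have := N.two_le_c A
      omega)
  have hg1' : g ≠ 1 := fun h => hg1 (Subtype.ext h)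
  have hgK : g ∉ S.ker A := fun h => hg1' (hdisj g h hg.2)
  have hgK' : g ∉ S.ker Y := fun h => hgK (N.mem_ker_of_fix h hg.1)
  rw [S.mem_ker, not_and, not_or] at hgK hgK'
  obtain ⟨-, h1⟩ := hgK hg.1
  push Not at h1
  obtain ⟨B, hB, hgB⟩ := h1
  obtain ⟨-, h2⟩ := hgK' hg.2
  push Not at h2
  obtain ⟨Y', hY', hgY'⟩ := h2
  rcases Data.cases3 (Adj := Adj) A Y' with h | h | h
  · exact hA.2 (h ▸ S.symm hY')
  · exact hg1' (S.eq_one_of_common hA.1 h (S.symm hY') hg.1 hg.2 hgY')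
  · obtain ⟨⟨y, hy⟩, hyY⟩ := hbij.2 ⟨Y', h⟩
    have hyY' : y • Y = Y' := congrArg Subtype.val hyY
    have h3 : y⁻¹ * (g * y * g⁻¹) = 1 := by
      refine hdisj _ (mul_mem (inv_mem hy) (S.conj_mem_ker_self hg.1 hy)) ?_
      rw [mul_smul, mul_smul, mul_smul, inv_smul_eq_iff.2 hg.2.symm, hyY', hgY', inv_smul_eq_iff,
        hyY']
    have hcm : Commute g y := by
      show g * y = y * g
      have := inv_mul_eq_one.1 h3
      calc g * y = g * y * g⁻¹ * g := by group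
        _ = y * g := by rw [← this]
    by_cases hy1 : y = 1
    · rw [hy1, one_smul] at hyY'
      exact S.irrefl Y (hyY' ▸ hY')
    · exact hg1' (hdisj g (S.mem_ker_of_commute hg.1 hy hy1 hcm) hg.2)

/-- Two central involutions moving a far point agree modulo its stabiliser. -/
theorem mul_fix (hc : Odd c) (hk : Even k) (hA : Far Adj A Y) {v v' : G} (hv : v ∈ S.Z0 A)
    (hv' : v' ∈ S.Z0 A) (hvY : v • Y ≠ Y) (hvY' : v' • Y ≠ Y) : (v * v') • Y = Y := by
  obtain ⟨t, ht, htA⟩ := N.exists_move_symm hk hA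
  obtain ⟨⟨e₀, he₀, he₀Y⟩, he₀1⟩ :=
    Subgroup.ne_bot_iff_exists_ne_one.1 (N.d_ne_one hc hk hA)
  obtain ⟨y, m, hy, hyY, hmm, hmA, hmc, hm⟩ := N.mid hc hA hv ht hvY htA
  obtain ⟨y', m', hy', hyY', hmm', hmA', hmc', hm'⟩ := N.mid hc hA hv' ht hvY' htA
  have hmY : m • Y = A := by rw [← hmA, ← mul_smul, hmm, one_smul]
  have hq : m' * m ∈ S.ker A := S.mem_ker_of_commute
    (by rw [mul_smul, hmA, ← hmA', ← mul_smul, hmm', one_smul]) he₀
    (fun e => he₀1 (Subtype.ext e)) ((hmc' e₀ he₀ he₀Y).mul_left (hmc e₀ he₀ he₀Y))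
  have e1 : v = y * y'⁻¹ * v' := by
    have e2 : m' * (y * t) * m' = v := by
      rw [← hm]
      calc m' * (m * v * m) * m' = (m' * m) * v * (m * m') := by group
        _ = v * (m' * m) * (m * m') := by rw [(hv.2.2 _ hq).eq]
        _ = v * (m' * (m * m) * m') := by group
        _ = v := by rw [hmm, mul_one, hmm', mul_one]
    rw [← e2, show t = y'⁻¹ * (m' * v' * m') by rw [hm']; group]
    have h1 : Commute m' (y * y'⁻¹) := (hmc' y hy hyY).mul_right (hmc' y' hy' hyY').inv_right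
    calc m' * (y * (y'⁻¹ * (m' * v' * m'))) * m'
        = m' * (y * y'⁻¹) * (m' * v' * (m' * m')) := by group
      _ = y * y'⁻¹ * (m' * m') * v' * (m' * m') := by rw [h1.eq]; group
      _ = _ := by rw [hmm', mul_one, mul_one]
  rw [e1, mul_assoc, hv'.2.1, mul_one, mul_smul, inv_smul_eq_iff.2 hyY'.symm, hyY]

theorem card_Z0_le (hc : Odd c) (hk : Even k) (hA : Far Adj A Y) :
    Nat.card (S.Z0 A) ≤ 2 * Nat.card ↥(S.Z0 A ⊓ stabilizer G Y) := by
  classical
  obtain ⟨v, hv, hvY⟩ := N.exists_move hk hA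
  rw [mul_comm, ← show Nat.card Bool = 2 by simp, ← Nat.card_prod]
  refine Nat.card_le_card_of_surjective
    (fun p : ↥(S.Z0 A ⊓ stabilizer G Y) × Bool =>
      if p.2 then (⟨p.1.1, p.1.2.1⟩ : S.Z0 A) else ⟨p.1.1 * v, mul_mem p.1.2.1 hv⟩) ?_
  rintro ⟨g, hg⟩
  by_cases h : g • Y = Y
  · exact ⟨⟨⟨g, hg, h⟩, true⟩, rfl⟩
  · refine ⟨⟨⟨g * v, mul_mem hg hv, N.mul_fix hc hk hA hg hv h hvY⟩, false⟩, Subtype.ext ?_⟩
    simp [mul_assoc, hv.2.1]

theorem c_eq_three (hc : Odd c) (hk : Even k) (A : X) :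
    c = 3 ∧ Nat.card (S.Z0 A) = 4 := by
  obtain ⟨P, Q, R, hQ, hR, hQR⟩ := N.exists_edge_far A
  obtain ⟨g, hg⟩ := S.trans_pt P A
  have hcard : Nat.card (S.Z0 A) = Nat.card (S.Z0 P) := by rw [← hg, S.card_Z0_smul]
  have h1 := N.card_Z0_le hc hk hQ
  have h2 := N.card_Z0_le hc hk hR
  have h3 : Nat.card ↥(S.Z0 P ⊓ stabilizer G Q) * Nat.card ↥(S.Z0 P ⊓ stabilizer G R) ≤
      Nat.card (S.Z0 P) := by
    rw [← Nat.card_prod]
    refine Nat.card_le_card_of_injective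
      (fun q => (⟨(q.1 : G) * q.2, mul_mem q.1.2.1 q.2.2.1⟩ : S.Z0 P)) fun p q e => ?_
    have hdisj : Disjoint (S.Z0 P ⊓ stabilizer G Q) (S.Z0 P ⊓ stabilizer G R) :=
      (disjoint_iff.2 (N.D_inf hQR)).mono (inf_le_inf_right _ fun x hx => hx.1)
        (inf_le_inf_right _ fun x hx => hx.1)
    exact Subgroup.mul_injective_of_disjoint hdisj (congrArg Subtype.val e)
  have h4 := N.c_lt_Z0 hk A
  have h5 := N.two_le_c A
  have h6 : 0 < Nat.card ↥(S.Z0 P ⊓ stabilizer G Q) := Nat.card_pos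
  have h7 : Nat.card ↥(S.Z0 P ⊓ stabilizer G Q) ≤ 2 := by nlinarith
  have h8 : Nat.card (S.Z0 P) ≤ 4 := by omega
  obtain ⟨j, hj⟩ := hc
  omega

/-- The unique central involution at `A` fixing a far point. -/
theorem existsUnique_sigma (hc : Odd c) (hk : Even k) (hA : Far Adj A Y) :
    ∃! z, z ∈ S.Z0 A ∧ z ≠ 1 ∧ z • Y = Y := by
  classical
  have h4 := (N.c_eq_three hc hk A).2
  have h1 := N.card_Z0_le hc hk hA
  obtain ⟨v, hv, hvY⟩ := N.exists_move hk hA
  have hlt : Nat.card ↥(S.Z0 A ⊓ stabilizer G Y) < 4 := by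
    rw [← h4]
    refine lt_of_le_of_ne (Subgroup.card_le_of_le inf_le_left) fun e => hvY ?_
    have := Subgroup.eq_of_le_of_card_ge (inf_le_left : S.Z0 A ⊓ stabilizer G Y ≤ _) e.ge
    have h' : v ∈ S.Z0 A ⊓ stabilizer G Y := by rw [this]; exact hv
    exact h'.2
  have hd : Nat.card ↥(S.Z0 A ⊓ stabilizer G Y) ∣ 4 :=
    h4 ▸ Subgroup.card_dvd_of_le inf_le_left
  have h2 : Nat.card ↥(S.Z0 A ⊓ stabilizer G Y) = 2 := by
    generalize Nat.card ↥(S.Z0 A ⊓ stabilizer G Y) = w at hlt hd h1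
    interval_cases w <;> first | omega | norm_num at hd
  obtain ⟨x, y, hxy, huniv⟩ := Nat.card_eq_two_iff.1 h2
  have hone : (1 : ↥(S.Z0 A ⊓ stabilizer G Y)) ∈ ({x, y} : Set _) := huniv ▸ Set.mem_univ _
  have key : ∀ (a b : ↥(S.Z0 A ⊓ stabilizer G Y)), a ≠ b → ({a, b} : Set _) = Set.univ → a = 1 →
      ∃! z, z ∈ S.Z0 A ∧ z ≠ 1 ∧ z • Y = Y := by
    intro a b hab hu ha
    refine ⟨b, ⟨b.2.1, fun e => hab (ha.trans (Subtype.ext e.symm)), b.2.2⟩, fun z hz => ?_⟩
    have hm : (⟨z, hz.1, hz.2.2⟩ : ↥(S.Z0 A ⊓ stabilizer G Y)) ∈ ({a, b} : Set _) :=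
      hu ▸ Set.mem_univ _
    rcases hm with hm | hm
    · exact absurd ((congrArg Subtype.val hm).trans (congrArg Subtype.val ha)) hz.2.1
    · exact congrArg Subtype.val hm
  rcases hone with h | h
  · exact key x y hxy huniv h.symm
  · exact key y x hxy.symm (Set.pair_comm x y ▸ huniv) h.symm

/-- The involution of a far pair is central at both points. -/
theorem sigma_symm (hc : Odd c) (hk : Even k) (hA : Far Adj A Y) {z : G} (hz : z ∈ S.Z0 A)
    (hzY : z • Y = Y) : z ∈ S.Z0 Y := by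
  obtain ⟨v, hv, hvY⟩ := N.exists_move hk hA
  obtain ⟨t, ht, htA⟩ := N.exists_move_symm hk hA
  obtain ⟨y, m, -, -, hmm, hmA, hmc, -⟩ := N.mid hc hA hv ht hvY htA
  have := S.conj_Z0_mem (g := m) hz
  rwa [hmA, (hmc z hz.1 hzY).eq, mul_inv_cancel_right] at this

theorem line_adj (hc : Odd c) (hk : Even k) {P Q : X} (hP : Far Adj A P) (hQ : Far Adj A Q)
    {z z' : G} (hz : z ∈ S.Z0 A) (hz1 : z ≠ 1) (hzP : z • P = P) (hz' : z' ∈ S.Z0 A)
    (hz'1 : z' ≠ 1) (hzQ : z' • Q = Q) (hne : z ≠ z') : Adj P Q := by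
  have hP' := N.sigma_symm hc hk hP hz hzP
  have hQ' := N.sigma_symm hc hk hQ hz' hzQ
  have hzQne : z • Q ≠ Q := fun e =>
    hne ((N.existsUnique_sigma hc hk hQ).unique ⟨hz, hz1, e⟩ ⟨hz', hz'1, hzQ⟩)
  by_contra hadj
  have hPQ : Far Adj P Q := ⟨fun e => hzQne (e ▸ hzP), hadj⟩
  obtain ⟨w, ⟨hw, hw1, hwQ⟩, -⟩ := N.existsUnique_sigma hc hk hPQ
  have hwQ' := N.sigma_symm hc hk hPQ hw hwQ
  have e1 : w • z • Q = z • Q := by
    rw [← mul_smul, (hw.2.2 z hP'.1).eq, mul_smul, hwQ]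
  have e2 : z' • z • Q = z • Q := by
    rw [← mul_smul, (hz'.2.2 z hz.1).eq, mul_smul, hzQ]
  have hfar : Far Adj Q (z • Q) :=
    ⟨hzQne.symm, N.not_adj_of_fix hQ'.1 hz'1 hzQ e2⟩
  have e3 : z' = w :=
    (N.existsUnique_sigma hc hk hfar).unique ⟨hQ', hz'1, e2⟩ ⟨hwQ', hw1, e1⟩
  exact hne ((N.existsUnique_sigma hc hk hP).unique ⟨hz, hz1, hzP⟩
    ⟨hz', hz'1, e3 ▸ S.ker_fix hw.1⟩)

/-- **The complement has even order.** -/
theorem even_c [Nonempty X] (hev : Even (Nat.card G)) : Even c := by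
  classical
  by_contra hc
  rw [Nat.not_even_iff_odd] at hc
  obtain ⟨A⟩ := ‹Nonempty X›
  have hk : Even k := by
    by_contra hk
    rw [Nat.not_even_iff_odd] at hk
    have h1 := N.l_mul A
    have hl : Odd l := (Nat.odd_mul.1 (h1 ▸ hk.mul hc)).1
    have h2 : Odd (Nat.card G) := by
      rw [N.card_G, N.card_X]
      refine Odd.mul ?_ (hk.mul hc)
      obtain ⟨a, ha⟩ := hk
      obtain ⟨b, hb⟩ := hl
      exact ⟨a + b + 1, by omega⟩
    exact Nat.not_even_iff_odd.2 h2 hev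
  obtain ⟨hc3, hZ4⟩ := N.c_eq_three hc hk A
  haveI := Fintype.ofFinite {z : S.Z0 A // z ≠ 1}
  -- the lines through `A`
  let O : S.Z0 A → Type _ := fun z => {Q : X // Far Adj A Q ∧ (z : G) • Q = Q}
  have e : (Σ z : {z : S.Z0 A // z ≠ 1}, O z.1) ≃ {Q : X // Far Adj A Q} :=
    Equiv.ofBijective (fun p => ⟨p.2.1, p.2.2.1⟩) ⟨by
      rintro ⟨⟨⟨z, hz⟩, hz1⟩, ⟨Q, hQ⟩⟩ ⟨⟨⟨z', hz'⟩, hz'1⟩, ⟨Q', hQ'⟩⟩ he
      obtain rfl : Q = Q' := congrArg Subtype.val he
      obtain rfl : z = z' := (N.existsUnique_sigma hc hk hQ.1).unique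
        ⟨hz, fun e => hz1 (Subtype.ext e), hQ.2⟩ ⟨hz', fun e => hz'1 (Subtype.ext e), hQ'.2⟩
      rfl, by
      rintro ⟨Q, hQ⟩
      obtain ⟨z, ⟨hz, hz1, hzQ⟩, -⟩ := N.existsUnique_sigma hc hk hQ
      exact ⟨⟨⟨⟨z, hz⟩, fun e => hz1 (congrArg Subtype.val e)⟩, ⟨Q, hQ, hzQ⟩⟩, rfl⟩⟩
  have h3 : Nat.card {z : S.Z0 A // z ≠ 1} = 3 := by
    haveI := Fintype.ofFinite (S.Z0 A)
    rw [Nat.card_eq_fintype_card, Fintype.card_subtype_compl, Fintype.card_subtype_eq,
      Fintype.card_eq_nat_card, hZ4]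
  obtain ⟨B, -, hB, -, -⟩ := S.exists_two A
  obtain ⟨F₀, hF₀⟩ := S.exists_far A
  obtain ⟨z₀, ⟨hz₀, hz₀1, hz₀F⟩, -⟩ := N.existsUnique_sigma hc hk hF₀
  set q := Nat.card (O ⟨z₀, hz₀⟩) with hq
  -- the lines have the same size
  have hsize : ∀ z : {z : S.Z0 A // z ≠ 1}, Nat.card (O z.1) = q := by
    intro z
    have hsurj : Function.Surjective (fun x : pst G A B =>
        (⟨⟨(x : G) * z₀ * (x : G)⁻¹, S.conj_Z0_self x.2.1 hz₀⟩, fun e => hz₀1 (by
          have : (x : G) * z₀ * (x : G)⁻¹ = 1 := congrArg Subtype.val e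
          simpa using this)⟩ : {z : S.Z0 A // z ≠ 1})) := by
      refine ((Nat.bijective_iff_injective_and_card _).2 ⟨?_, by
        rw [N.card_pst hB, h3, hc3]⟩).2
      intro x y e
      have e' : (x : G) * z₀ * (x : G)⁻¹ = y * z₀ * (y : G)⁻¹ :=
        congrArg (fun w : {z : S.Z0 A // z ≠ 1} => (w.1 : G)) e
      have hc' : Commute ((y : G)⁻¹ * x) z₀ := by
        show (y : G)⁻¹ * x * z₀ = z₀ * ((y : G)⁻¹ * x)
        calc (y : G)⁻¹ * x * z₀ = (y : G)⁻¹ * (x * z₀ * (x : G)⁻¹) * x := by group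
          _ = _ := by rw [e']; group
      have hm := (pst G A B).mul_mem ((pst G A B).inv_mem y.2) x.2
      have h1 := S.mem_ker_of_commute hm.1 hz₀.1 hz₀1 hc'
      exact Subtype.ext (inv_mul_eq_one.1 (S.ker_moves h1 hB hm.2)).symm
    obtain ⟨x, rfl⟩ := hsurj z
    refine (Nat.card_congr ((MulAction.toPerm (x : G)).subtypeEquiv fun Q => ?_)).symm
    simp only [MulAction.toPerm_apply, mul_smul, inv_smul_smul, MulAction.injective _ |>.eq_iff]
    refine and_congr ⟨fun h => ?_, fun h => ?_⟩ Iff.rfl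
    · have := S.far_smul (x : G) h
      rwa [x.2.1] at this
    · have := S.far_smul (x : G)⁻¹ h
      rwa [inv_smul_smul, inv_smul_eq_iff.2 (show (x : G) • A = A from x.2.1).symm] at this
  have hl : l = 3 * q := by
    rw [← N.card_far A, ← Nat.card_congr e, Nat.card_sigma,
      Finset.sum_congr rfl (fun z _ => hsize z), Finset.sum_const, Finset.card_univ,
      Fintype.card_eq_nat_card, h3, smul_eq_mul]
  have hqpos : 0 < q := Finite.card_pos_iff.2 ⟨⟨F₀, hF₀, hz₀F⟩⟩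
  -- adjacency from a point of the line of `z₀`
  have hrow : ∀ P : O ⟨z₀, hz₀⟩, ∀ Q, Far Adj A Q → (Adj P.1 Q ↔ z₀ • Q ≠ Q) := by
    intro P Q hQ
    refine ⟨fun h e => N.not_adj_of_fix hz₀.1 hz₀1 P.2.2 e h, fun h => ?_⟩
    obtain ⟨z', ⟨hz', hz'1, hzQ⟩, -⟩ := N.existsUnique_sigma hc hk hQ
    exact N.line_adj hc hk P.2.1 hQ hz₀ hz₀1 P.2.2 hz' hz'1 hzQ fun e => h (e ▸ hzQ)
  have hrest : Nat.card {Q : X // Far Adj A Q ∧ z₀ • Q ≠ Q} = 2 * q := by
    have hs := Nat.card_congr (Equiv.sumCompl fun Q : {Q : X // Far Adj A Q} => z₀ • Q.1 = Q.1)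
    rw [Nat.card_sum, N.card_far, hl,
      Nat.card_congr (Equiv.subtypeSubtypeEquivSubtypeInter (Far Adj A) (fun Q => z₀ • Q = Q)),
      Nat.card_congr (Equiv.subtypeSubtypeEquivSubtypeInter (Far Adj A) (fun Q => ¬ z₀ • Q = Q))]
      at hs
    change q + Nat.card {Q : X // Far Adj A Q ∧ z₀ • Q ≠ Q} = 3 * q at hs
    omega
  let Bad : X → Type _ := fun P => {B' : X // Adj A B' ∧ ¬ Adj P B'}
  have hbad : ∀ P : O ⟨z₀, hz₀⟩, μ + Nat.card (Bad P.1) = k ∧ μ + 2 * q = k := by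
    intro P
    constructor
    · rw [← N.card_mu P.2.1, ← N.card_adj A,
        ← Nat.card_congr (Equiv.sumCompl fun x : {x // Adj A x} => Adj x.1 P.1), Nat.card_sum]
      congr 1
      · exact Nat.card_congr (Equiv.subtypeSubtypeEquivSubtypeInter _ _).symm
      · exact Nat.card_congr ((Equiv.subtypeSubtypeEquivSubtypeInter (Adj A) _).trans
          (Equiv.subtypeEquivRight fun x => and_congr Iff.rfl
            (not_congr ⟨S.symm, S.symm⟩))).symm
    · rw [← N.card_mu P.2.1, ← N.card_adj P.1, ← hrest,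
        ← Nat.card_congr (Equiv.sumCompl fun x : {x // Adj P.1 x} => Adj A x.1), Nat.card_sum]
      congr 1
      · exact Nat.card_congr ⟨fun x => ⟨⟨x.1, S.symm x.2.2⟩, x.2.1⟩,
          fun x => ⟨x.1.1, x.2, S.symm x.1.2⟩, fun x => rfl, fun x => rfl⟩
      · refine Nat.card_congr ⟨fun x => ⟨⟨x.1, (hrow P x.1 x.2.1).2 x.2.2⟩, x.2.1.2⟩,
          fun x => ⟨x.1.1, ?_, ?_⟩, fun x => rfl, fun x => rfl⟩
        · exact ⟨fun e => P.2.1.2 (S.symm ((congrArg (Adj _) e).mpr x.1.2)), x.2⟩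
        · exact (hrow P x.1.1 ⟨fun e => P.2.1.2 (S.symm ((congrArg (Adj _) e).mpr x.1.2)), x.2⟩).1 x.1.2
  -- two points of the line have disjoint non-adjacent sets next to `A`
  have hdisj : ∀ (P P' : O ⟨z₀, hz₀⟩) (B' : X), Adj A B' → ¬ Adj P.1 B' → ¬ Adj P'.1 B' →
      P = P' := by
    intro P P' B' hB' hP hP'
    by_contra hne
    have hfar : Far Adj P.1 P'.1 :=
      ⟨fun e => hne (Subtype.ext e), fun h => (hrow P _ P'.2.1).1 h P'.2.2⟩
    have hμ := N.card_mu hfar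
    rw [common, ← Nat.card_congr (Equiv.sumCompl
      fun x : {x // Adj P.1 x ∧ Adj x P'.1} => Adj A x.1), Nat.card_sum] at hμ
    haveI := Fintype.ofFinite {x : X // Adj A x}
    have h1 : Nat.card {x : {x // Adj P.1 x ∧ Adj x P'.1} // ¬ Adj A x.1} = 2 * q := by
      rw [← hrest]
      refine Nat.card_congr ⟨fun x => ⟨x.1.1, ?_, ?_⟩, fun x => ⟨⟨x.1, ?_, ?_⟩, x.2.1.2⟩,
        fun x => rfl, fun x => rfl⟩
      · exact ⟨fun e => P.2.1.2 (S.symm ((congrArg (Adj _) e).mpr x.1.2.1)), x.2⟩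
      · exact (hrow P _ ⟨fun e => P.2.1.2 (S.symm ((congrArg (Adj _) e).mpr x.1.2.1)), x.2⟩).1 x.1.2.1
      · exact (hrow P _ x.2.1).2 x.2.2
      · exact S.symm ((hrow P' _ x.2.1).2 x.2.2)
    have h2 : Nat.card {x : {x // Adj P.1 x ∧ Adj x P'.1} // Adj A x.1} +
        (Nat.card (Bad P.1) + Nat.card (Bad P'.1)) ≥ k + 1 := by
      have hB1 : (⟨B', hB'⟩ : {x // Adj A x}) ∈
          (Finset.univ.filter fun x : {x // Adj A x} => ¬ Adj P.1 x.1) ∩
          (Finset.univ.filter fun x : {x // Adj A x} => ¬ Adj P'.1 x.1) := by simp [hP, hP']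
      have hu := Finset.card_union_add_card_inter
        (Finset.univ.filter fun x : {x // Adj A x} => ¬ Adj P.1 x.1)
        (Finset.univ.filter fun x : {x // Adj A x} => ¬ Adj P'.1 x.1)
      have hi : 1 ≤ _ := Finset.card_pos.2 ⟨_, hB1⟩
      have hb : ∀ R : X, Nat.card (Bad R) =
          (Finset.univ.filter fun x : {x // Adj A x} => ¬ Adj R x.1).card := fun R => by
        rw [← Fintype.card_subtype, Fintype.card_eq_nat_card]
        exact Nat.card_congr (Equiv.subtypeSubtypeEquivSubtypeInter (Adj A) (fun x => ¬ Adj R x)).symm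
      have hc' : Nat.card {x : {x // Adj P.1 x ∧ Adj x P'.1} // Adj A x.1} =
          ((Finset.univ.filter fun x : {x // Adj A x} => ¬ Adj P.1 x.1) ∪
          (Finset.univ.filter fun x : {x // Adj A x} => ¬ Adj P'.1 x.1))ᶜ.card := by
        rw [← Fintype.card_coe, Fintype.card_eq_nat_card]
        exact Nat.card_congr ⟨fun x => ⟨⟨x.1.1, x.2⟩, by simp [x.1.2.1, S.symm x.1.2.2]⟩,
          fun x => ⟨⟨x.1.1, by have := x.2; simp only [Finset.mem_compl, Finset.mem_union,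
            Finset.mem_filter, Finset.mem_univ, true_and, not_or, not_not] at this; exact
            ⟨this.1, S.symm this.2⟩⟩, x.1.2⟩, fun x => rfl, fun x => rfl⟩
      rw [hb, hb, hc', Finset.card_compl, Fintype.card_eq_nat_card, N.card_adj]
      have := Finset.card_le_univ ((Finset.univ.filter fun x : {x // Adj A x} => ¬ Adj P.1 x.1) ∪
        (Finset.univ.filter fun x : {x // Adj A x} => ¬ Adj P'.1 x.1))
      rw [Fintype.card_eq_nat_card, N.card_adj] at this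
      omega
    have := hbad P
    have := hbad P'
    omega
  -- count the non-adjacent pairs
  haveI := Fintype.ofFinite (O ⟨z₀, hz₀⟩)
  haveI := Fintype.ofFinite {x : X // Adj A x}
  have ecount : (Σ P : O ⟨z₀, hz₀⟩, Bad P.1) ≃
      (Σ B' : {x : X // Adj A x}, {P : O ⟨z₀, hz₀⟩ // ¬ Adj P.1 B'.1}) :=
    ⟨fun p => ⟨⟨p.2.1, p.2.2.1⟩, ⟨p.1, p.2.2.2⟩⟩, fun p => ⟨p.2.1, ⟨p.1.1, p.1.2, p.2.2⟩⟩,
      fun p => rfl, fun p => rfl⟩
  have hcount := Nat.card_congr ecount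
  rw [Nat.card_sigma, Nat.card_sigma] at hcount
  obtain ⟨P₀⟩ : Nonempty (O ⟨z₀, hz₀⟩) := ⟨⟨F₀, hF₀, hz₀F⟩⟩
  have hμ2 := (hbad P₀).2
  obtain ⟨⟨B₀, hB₀, hPB₀⟩⟩ : Nonempty (Bad P₀.1) := Finite.card_pos_iff.1 (by
    have := (hbad P₀).1; omega)
  have hone : ∀ B' : {x : X // Adj A x}, Nat.card {P : O ⟨z₀, hz₀⟩ // ¬ Adj P.1 B'.1} = 1 := by
    intro B'
    obtain ⟨y, hy, hyB⟩ := S.exists_ker_smul hB₀ B'.2
    rw [Nat.card_eq_one_iff_unique]
    refine ⟨⟨fun P P' => Subtype.ext (hdisj _ _ _ B'.2 P.2 P'.2)⟩, ⟨⟨⟨y • P₀.1, ?_, ?_⟩, ?_⟩⟩⟩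
    · have := S.far_smul y P₀.2.1
      rwa [S.ker_fix hy] at this
    · show z₀ • y • P₀.1 = y • P₀.1
      rw [← mul_smul, (hz₀.2.2 y hy).eq, mul_smul, show z₀ • P₀.1 = P₀.1 from P₀.2.2]
    · show ¬ Adj (y • P₀.1) B'.1
      rw [← hyB, S.adj_iff]
      exact hPB₀
  have hB2 : ∀ P : O ⟨z₀, hz₀⟩, Nat.card (Bad P.1) = 2 * q := fun P => by
    have := hbad P; omega
  rw [Finset.sum_congr rfl (fun P _ => hB2 P), Finset.sum_congr rfl (fun B' _ => hone B'),
    Finset.sum_const, Finset.sum_const, Finset.card_univ, Finset.card_univ,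
    Fintype.card_eq_nat_card, Fintype.card_eq_nat_card, N.card_adj, smul_eq_mul, smul_eq_mul,
    mul_one, ← hq] at hcount
  have h3k := N.c_dvd_pred A
  rw [hc3] at h3k
  have hk1 := N.two_le_k A
  have h3k' : (q * (2 * q)) % 3 = 1 := by
    obtain ⟨s, hs⟩ := h3k
    omega
  rw [Nat.mul_mod, Nat.mul_mod 2 q] at h3k'
  have := Nat.mod_lt q (show 3 > 0 by norm_num)
  interval_cases h : q % 3 <;> norm_num at h3k'

end Nums

end Cfsg.Agent.RankThreeFrob
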