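/-
Rank three actions with a Frobenius suborbit, complement of even order: the class of involutions
with fixed points and the swap counts.

Main results (namespace `Cfsg.Agent.RankThreeFrob`):
* `Nums.exists_inv`, `Nums.inverts`, `Nums.ker_comm` : one involution per edge, abelian kernels
* `Nums.exists_counts` : `k v = k f + f (k ι + l ι')` and the number of edges moved by an involution
* `Nums.centralizer_D` : the centraliser of `D` is transitive on the fixed points of `D`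
-/
import Cfsg.Agent.Lib.RankThreeFrob.OddComp

set_option autoImplicit false
set_option linter.style.haveILetI false
set_option linter.unusedSectionVars false

namespace Cfsg.Agent.RankThreeFrob

open MulAction

variable {G X : Type*} [Group G] [MulAction G X] [Finite G] {Adj : X → X → Prop}

/-- Involutions with a fixed point. -/
def IsT (X : Type*) [MulAction G X] (u : G) : Prop := u * u = 1 ∧ u ≠ 1 ∧ ∃ P : X, u • P = P

/-- Constants of the class of involutions. -/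
structure Counts [Finite X] (S : Data G X Adj) (f ι ι' : ℕ) : Prop where
  card_fix : ∀ {u : G}, IsT X u → Nat.card {P : X // u • P = P} = f
  card_moved : ∀ {u : G}, IsT X u → Nat.card {P : X // Adj P (u • P)} = f * ι
  card_swap : ∀ {P Q : X}, Adj P Q → Nat.card {u : G // IsT X u ∧ u • P = Q} = ι
  card_swap' : ∀ {P Q : X}, Far Adj P Q → Nat.card {u : G // IsT X u ∧ u • P = Q} = ι'

theorem IsT.conj {u : G} (h : IsT X u) (g : G) : IsT X (g * u * g⁻¹) := by
  obtain ⟨h1, h2, P, hP⟩ := h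
  refine ⟨?_, fun e => h2 ?_, g • P, by rw [mul_smul, mul_smul, inv_smul_smul, hP]⟩
  · calc g * u * g⁻¹ * (g * u * g⁻¹) = g * (u * u) * g⁻¹ := by group
      _ = 1 := by rw [h1]; group
  · calc u = g⁻¹ * (g * u * g⁻¹) * g := by group
      _ = 1 := by rw [e]; group

theorem IsT.inv_eq {u : G} (h : IsT X u) : u⁻¹ = u := inv_eq_of_mul_eq_one_right h.1

theorem IsT.smul_smul {u : G} (h : IsT X u) (P : X) : u • u • P = P := by
  rw [← mul_smul, h.1, one_smul]

/-- If all stabilisers have order `d`, then `|H|` divides `d` times the number of points. -/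
theorem card_dvd_card_mul_of_stab [Finite X] (H : Subgroup G) (p : X → Prop) (d : ℕ)
    (hinv : ∀ g ∈ H, ∀ x, p x → p (g • x))
    (hst : ∀ x, p x → Nat.card ↥(H ⊓ stabilizer G x) = d) :
    Nat.card H ∣ Nat.card {x // p x} * d := by
  classical
  let Y : SubMulAction H X :=
    { carrier := {x | p x}
      smul_mem' := fun g x hx => hinv g g.2 x hx }
  haveI := Fintype.ofFinite (MulAction.orbitRel.Quotient H Y)
  rw [show Nat.card {x // p x} = Nat.card Y from rfl,
    Nat.card_congr (MulAction.selfEquivSigmaOrbitsQuotientStabilizer H Y), Nat.card_sigma,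
    Finset.sum_mul]
  refine Finset.dvd_sum fun ω _ => ?_
  have h1 : Nat.card (MulAction.stabilizer H (Quotient.out ω)) = d := by
    rw [← hst _ (Quotient.out ω).2]
    exact Nat.card_congr ⟨fun g => ⟨g.1.1, g.1.2, congrArg Subtype.val g.2⟩,
      fun g => ⟨⟨g.1, g.2.1⟩, Subtype.ext g.2.2⟩, fun g => rfl, fun g => rfl⟩
  have h2 := (MulAction.stabilizer H (Quotient.out ω)).index_mul_card
  rw [Subgroup.index, h1] at h2
  exact dvd_of_eq h2.symm

namespace Nums

variable [Finite X] {S : Data G X Adj} {k c l Λ d lam μ : ℕ}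
  (N : Nums S k c l Λ d lam μ) (hc : Even c) {A B P Q Y : X}
include N hc

theorem k_odd (A : X) : Odd k := by
  by_contra h
  rw [Nat.not_odd_iff_even] at h
  have := Nat.eq_one_of_dvd_coprimes (N.coprime_kc A) (even_iff_two_dvd.1 hc)
    (even_iff_two_dvd.1 h)
  omega

theorem fpf_pst (h : Adj P Q) : Frobenius.FPF (pst G P Q) (S.ker P) := by
  intro x hx hx1 y hy e
  by_contra hy1
  exact hx1 (S.ker_moves (S.mem_ker_of_commute hx.1 hy hy1 e) h hx.2)

theorem exists_inv (h : Adj P Q) :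
    (∃ z, IsT X z ∧ z • P = P ∧ z • Q = Q ∧ (∀ u, IsT X u → u • P = P → u • Q = Q → u = z) ∧
      ∀ y ∈ S.ker P, z * y * z⁻¹ = y⁻¹) ∧ IsMulCommutative (S.ker P) := by
  have hne : S.ker P ≠ ⊥ := fun e => by
    have := N.card_ker P
    rw [e, Subgroup.card_bot] at this
    have := N.two_le_k P
    omega
  have hev : 2 ∣ Nat.card (pst G P Q) := by rw [N.card_pst h]; exact even_iff_two_dvd.1 hc
  have hle : pst G P Q ≤ Subgroup.normalizer (S.ker P : Set G) := by
    intro x hx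
    rw [Subgroup.mem_normalizer_iff]
    intro y
    refine ⟨fun hy => S.conj_mem_ker_self hx.1 hy, fun hy => ?_⟩
    have := S.conj_mem_ker_self (P := P) ((pst G P Q).inv_mem hx).1 hy
    rwa [show x⁻¹ * (x * y * x⁻¹) * x⁻¹⁻¹ = y by group] at this
  obtain ⟨⟨z, hz, hz2, huniq, hinv⟩, hcomm⟩ :=
    Frobenius.exists_inverting_involution hne hle (N.fpf_pst hc h) hev
  have hz1 : z ≠ 1 := fun e => by
    rw [e, orderOf_one] at hz2
    exact absurd hz2 (by norm_num)
  have hzz : z * z = 1 := by rw [← sq, ← hz2, pow_orderOf_eq_one]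
  refine ⟨⟨z, ⟨hzz, hz1, P, hz.1⟩, hz.1, hz.2, fun u hu h1 h2 => huniq u ⟨h1, h2⟩ ?_, hinv⟩,
    hcomm⟩
  haveI : Fact (Nat.Prime 2) := ⟨Nat.prime_two⟩
  exact orderOf_eq_prime (by rw [sq, hu.1]) hu.2.1

theorem eq_of_edge {u w : G} (hu : IsT X u) (hw : IsT X w) (h : Adj P Q) (hu1 : u • P = P)
    (hu2 : u • Q = Q) (hw1 : w • P = P) (hw2 : w • Q = Q) : u = w := by
  obtain ⟨⟨z, -, -, -, hz, -⟩, -⟩ := N.exists_inv hc h
  rw [hz u hu hu1 hu2, hz w hw hw1 hw2]

theorem exists_partner {u : G} (hu : IsT X u) (hP : u • P = P) : ∃ Q, Adj P Q ∧ u • Q = Q := by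
  by_contra h
  push Not at h
  have hk : u ∈ S.ker P := S.mem_ker.2 ⟨hP, Or.inr h⟩
  haveI : Fact (Nat.Prime 2) := ⟨Nat.prime_two⟩
  have := Subgroup.orderOf_dvd_natCard _ hk
  rw [orderOf_eq_prime (by rw [sq, hu.1]) hu.2.1, N.card_ker] at this
  exact Nat.not_even_iff_odd.2 (N.k_odd hc P) (even_iff_two_dvd.2 this)

theorem existsUnique_partner {u : G} (hu : IsT X u) (hP : u • P = P) :
    ∃! Q, Adj P Q ∧ u • Q = Q := by
  obtain ⟨Q, hQ, huQ⟩ := N.exists_partner hc hu hP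
  exact ⟨Q, ⟨hQ, huQ⟩, fun Q' h => S.fix_unique hu.2.1 h.1 hQ hP h.2 huQ⟩

theorem ker_comm {y y' : G} (hy : y ∈ S.ker P) (hy' : y' ∈ S.ker P) : Commute y y' := by
  obtain ⟨Q, -, h, -, -⟩ := S.exists_two P
  obtain ⟨-, hcomm⟩ := N.exists_inv hc h
  exact congrArg Subtype.val (hcomm.is_comm.comm (⟨y, hy⟩ : S.ker P) ⟨y', hy'⟩)

theorem inverts {u y : G} (hu : IsT X u) (hP : u • P = P) (hy : y ∈ S.ker P) :
    u * y * u = y⁻¹ := by
  obtain ⟨Q, hQ, huQ⟩ := N.exists_partner hc hu hP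
  obtain ⟨⟨z, -, -, -, huniq, hinv⟩, -⟩ := N.exists_inv hc hQ
  obtain rfl := huniq u hu hP huQ
  have := hinv y hy
  rwa [hu.inv_eq] at this

/-- The involution of an edge is central in the stabiliser of the edge. -/
theorem commute_pst {u x : G} (hu : IsT X u) (h : Adj P Q) (hP : u • P = P) (hQ : u • Q = Q)
    (hx : x ∈ pst G P Q) : Commute x u := by
  have := N.eq_of_edge hc (hu.conj x) hu h
    (by rw [mul_smul, mul_smul, inv_smul_eq_iff.2 hx.1.symm, hP, hx.1])
    (by rw [mul_smul, mul_smul, inv_smul_eq_iff.2 hx.2.symm, hQ, hx.2]) hP hQ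
  exact mul_inv_eq_iff_eq_mul.1 this

theorem conjugate {u w : G} (hu : IsT X u) (hw : IsT X w) : ∃ g, g * u * g⁻¹ = w := by
  obtain ⟨P, hP⟩ := hu.2.2
  obtain ⟨R, hR⟩ := hw.2.2
  obtain ⟨Q, hQ, huQ⟩ := N.exists_partner hc hu hP
  obtain ⟨R', hR', hwR'⟩ := N.exists_partner hc hw hR
  obtain ⟨g, rfl, rfl⟩ := S.trans_adj hQ hR'
  refine ⟨g, N.eq_of_edge hc (hu.conj g) hw hR' ?_ ?_ hR hwR'⟩ <;>
    rw [mul_smul, mul_smul, inv_smul_smul]
  · rw [hP]
  · rw [huQ]

theorem card_T_fix (P : X) : Nat.card {u : G // IsT X u ∧ u • P = P} = k := by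
  rw [← N.card_adj P]
  refine Nat.card_congr (Equiv.ofBijective
    (fun u => (⟨(N.exists_partner hc u.2.1 u.2.2).choose,
      (N.exists_partner hc u.2.1 u.2.2).choose_spec.1⟩ : {Q : X // Adj P Q}))
    ⟨fun u w e => ?_, fun Q => ?_⟩)
  · have e' := congrArg Subtype.val e
    simp only at e'
    have h1 := (N.exists_partner hc u.2.1 u.2.2).choose_spec
    have h2 := (N.exists_partner hc w.2.1 w.2.2).choose_spec
    exact Subtype.ext (N.eq_of_edge hc u.2.1 w.2.1 h1.1 u.2.2 h1.2 w.2.2 (e' ▸ h2.2))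
  · obtain ⟨⟨z, hz, hzP, hzQ, -, -⟩, -⟩ := N.exists_inv hc Q.2
    refine ⟨⟨z, hz, hzP⟩, Subtype.ext ?_⟩
    have h1 := (N.exists_partner hc hz hzP).choose_spec
    exact S.fix_unique hz.2.1 h1.1 Q.2 hzP h1.2 hzQ

theorem iota_le (h : Adj P Q) : Nat.card {u : G // IsT X u ∧ u • P = Q} ≤ c := by
  rcases isEmpty_or_nonempty {u : G // IsT X u ∧ u • P = Q} with he | ⟨⟨u₀, hu₀, h0⟩⟩
  · rw [Nat.card_of_isEmpty]; exact Nat.zero_le _
  rw [← N.card_pst h]
  refine Nat.card_le_card_of_injective (fun u => (⟨u₀ * u.1, ?_⟩ : pst G P Q)) fun a b e =>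
    Subtype.ext (mul_left_cancel (congrArg Subtype.val e))
  have hQ : ∀ w : {u : G // IsT X u ∧ u • P = Q}, (w : G) • Q = P := fun w => by
    have := w.2.1.smul_smul P
    rwa [w.2.2] at this
  exact ⟨by show (u₀ * u.1) • P = P; rw [mul_smul, u.2.2, hQ ⟨u₀, hu₀, h0⟩],
    by show (u₀ * u.1) • Q = Q; rw [mul_smul, hQ u, h0]⟩

theorem iota'_le (h : Far Adj P Q) : Nat.card {u : G // IsT X u ∧ u • P = Q} ≤ Λ := by
  rcases isEmpty_or_nonempty {u : G // IsT X u ∧ u • P = Q} with he | ⟨⟨u₀, hu₀, h0⟩⟩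
  · rw [Nat.card_of_isEmpty]; exact Nat.zero_le _
  rw [← N.card_pfar h]
  refine Nat.card_le_card_of_injective (fun u => (⟨u₀ * u.1, ?_⟩ : pst G P Q)) fun a b e =>
    Subtype.ext (mul_left_cancel (congrArg Subtype.val e))
  have hQ : ∀ w : {u : G // IsT X u ∧ u • P = Q}, (w : G) • Q = P := fun w => by
    have := w.2.1.smul_smul P
    rwa [w.2.2] at this
  exact ⟨by show (u₀ * u.1) • P = P; rw [mul_smul, u.2.2, hQ ⟨u₀, hu₀, h0⟩],
    by show (u₀ * u.1) • Q = Q; rw [mul_smul, hQ u, h0]⟩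

theorem exists_counts [Nonempty X] : ∃ f ι ι', Counts S f ι ι' ∧
    k * Nat.card X = k * f + f * (k * ι + l * ι') ∧ ι ≤ c ∧ ι' ≤ Λ ∧ 0 < f := by
  classical
  obtain ⟨A⟩ := ‹Nonempty X›
  obtain ⟨B, -, hB, -, -⟩ := S.exists_two A
  obtain ⟨F, hF⟩ := S.exists_far A
  obtain ⟨⟨z, hz, hzA, hzB, -, -⟩, -⟩ := N.exists_inv hc hB
  set f := Nat.card {P : X // z • P = P} with hf
  set ι := Nat.card {u : G // IsT X u ∧ u • A = B}
  set ι' := Nat.card {u : G // IsT X u ∧ u • A = F}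
  have hconst : ∀ (p : X → X → Prop), (∀ (g : G) P Q, p (g • P) (g • Q) ↔ p P Q) →
      ∀ {u : G}, IsT X u → Nat.card {P : X // p P (u • P)} = Nat.card {P : X // p P (z • P)} := by
    intro p hp u hu
    obtain ⟨g, rfl⟩ := N.conjugate hc hz hu
    exact card_image_smul g _ _ fun x => by
      rw [mul_smul, mul_smul, inv_smul_smul, hp]
  have hswap : ∀ (g : G) (P Q : X), Nat.card {u : G // IsT X u ∧ u • (g • P) = g • Q} =
      Nat.card {u : G // IsT X u ∧ u • P = Q} := fun g P Q =>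
    (Nat.card_congr ((MulAut.conj g).toEquiv.subtypeEquiv fun u => by
      simp only [MulEquiv.toEquiv_eq_coe, EquivLike.coe_coe, MulAut.conj_apply, mul_smul,
        inv_smul_smul, MulAction.injective g |>.eq_iff]
      refine and_congr ⟨fun h => h.conj g, fun h => ?_⟩ Iff.rfl
      have := h.conj g⁻¹
      rwa [show g⁻¹ * (g * u * g⁻¹) * g⁻¹⁻¹ = u by group] at this)).symm
  have hι : ∀ {P Q}, Adj P Q → Nat.card {u : G // IsT X u ∧ u • P = Q} = ι := by
    intro P Q h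
    obtain ⟨g, rfl, rfl⟩ := S.trans_adj hB h
    exact hswap g A B
  have hι' : ∀ {P Q}, Far Adj P Q → Nat.card {u : G // IsT X u ∧ u • P = Q} = ι' := by
    intro P Q h
    obtain ⟨g, rfl, rfl⟩ := S.trans_far hF h
    exact hswap g A F
  haveI := Fintype.ofFinite X
  haveI := Fintype.ofFinite G
  -- count the pairs `(u, P)` by the relation between `P` and `u P`
  have count : ∀ (p : X → X → Prop), (∀ (g : G) P Q, p (g • P) (g • Q) ↔ p P Q) → ∀ (n m : ℕ),
      (∀ P, Nat.card {Q : X // p P Q} = n) →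
      (∀ P Q, p P Q → Nat.card {u : G // IsT X u ∧ u • P = Q} = m) →
      Nat.card {u : G // IsT X u} * Nat.card {P : X // p P (z • P)} = Nat.card X * (n * m) := by
    intro p hp n m hn hm
    have e : (Σ u : {u : G // IsT X u}, {P : X // p P (u.1 • P)}) ≃
        (Σ P : X, Σ Q : {Q : X // p P Q}, {u : G // IsT X u ∧ u • P = Q.1}) :=
      ⟨fun a => ⟨a.2.1, ⟨⟨a.1.1 • a.2.1, a.2.2⟩, ⟨a.1.1, a.1.2, rfl⟩⟩⟩,
        fun b => ⟨⟨b.2.2.1, b.2.2.2.1⟩, ⟨b.1, by rw [b.2.2.2.2]; exact b.2.1.2⟩⟩, fun a => rfl, by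
        rintro ⟨P, ⟨Q, hQ⟩, ⟨u, hu, hq⟩⟩
        cases hq
        rfl⟩
    have h := Nat.card_congr e
    rw [Nat.card_sigma, Nat.card_sigma] at h
    rw [Finset.sum_congr rfl (fun u _ => hconst p hp u.2), Finset.sum_const, Finset.card_univ,
      Fintype.card_eq_nat_card, smul_eq_mul] at h
    rw [h, Finset.sum_congr rfl (fun P _ => show _ = n * m from ?_), Finset.sum_const,
      Finset.card_univ, Fintype.card_eq_nat_card, smul_eq_mul]
    rw [Nat.card_sigma, Finset.sum_congr rfl (fun Q _ => hm P Q.1 Q.2), Finset.sum_const,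
      Finset.card_univ, Fintype.card_eq_nat_card, hn, smul_eq_mul]
  have h0 := count (fun P Q => P = Q) (fun g P Q => (MulAction.injective g).eq_iff) 1 k
    (fun P => by
      rw [Nat.card_eq_one_iff_unique]
      exact ⟨⟨fun a b => Subtype.ext (a.2.symm.trans b.2)⟩, ⟨⟨P, rfl⟩⟩⟩)
    (fun P Q e => by subst e; exact N.card_T_fix hc P)
  have h1 := count Adj (fun g P Q => S.adj_iff g) k ι N.card_adj fun P Q => hι
  have h2 := count (Far Adj) (fun g P Q => ⟨fun h => by simpa using S.far_smul g⁻¹ h,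
    S.far_smul g⟩) l ι' N.card_far fun P Q => hι'
  set T := Nat.card {u : G // IsT X u}
  have hT : 0 < T := Finite.card_pos_iff.2 ⟨⟨z, hz⟩⟩
  have hf' : Nat.card {P : X // P = z • P} = f :=
    Nat.card_congr (Equiv.subtypeEquivRight fun P => eq_comm)
  rw [hf', one_mul] at h0
  set Na := Nat.card {P : X // Adj P (z • P)}
  set Nf := Nat.card {P : X // Far Adj P (z • P)}
  have hsum : f + (Na + Nf) = Nat.card X := by
    rw [← hf', ← Nat.card_congr (Equiv.sumCompl fun P : X => P = z • P), Nat.card_sum]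
    congr 1
    rw [← Nat.card_congr (Equiv.sumCompl fun P : {P : X // ¬ P = z • P} => Adj P.1 (z • P.1)),
      Nat.card_sum]
    congr 1
    · exact Nat.card_congr ⟨fun P => ⟨⟨P.1, fun e => S.adj_ne P.2 e⟩, P.2⟩, fun P => ⟨P.1.1, P.2⟩,
        fun P => rfl, fun P => rfl⟩
    · exact Nat.card_congr ⟨fun P => ⟨⟨P.1, P.2.1⟩, P.2.2⟩, fun P => ⟨P.1.1, P.1.2, P.2⟩,
        fun P => rfl, fun P => rfl⟩
  have hNa : Na = f * ι := Nat.eq_of_mul_eq_mul_left hT (by rw [h1, ← mul_assoc T f ι, h0]; ring)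
  refine ⟨f, ι, ι', ⟨fun hu => ?_, fun hu => (hconst Adj (fun g P Q => S.adj_iff g) hu).trans hNa,
    hι, hι'⟩, ?_, N.iota_le hc hB, N.iota'_le hc hF, Finite.card_pos_iff.2 ⟨⟨A, hzA⟩⟩⟩
  · rw [← hf']
    exact (Nat.card_congr (Equiv.subtypeEquivRight fun P => eq_comm)).trans
      (hconst (fun P Q => P = Q) (fun g P Q => (MulAction.injective g).eq_iff) hu)
  · have hNf : k * Nf = f * (l * ι') := Nat.eq_of_mul_eq_mul_left hT (by
      calc T * (k * Nf) = k * (T * Nf) := by ring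
        _ = k * (Nat.card X * (l * ι')) := by rw [h2]
        _ = (Nat.card X * k) * (l * ι') := by ring
        _ = (T * f) * (l * ι') := by rw [h0]
        _ = _ := by ring)
    rw [← hsum, mul_add, mul_add, hNf, hNa]
    ring

theorem d_lt (A : X) : d < k := by
  by_contra h
  have h1 := N.d_sq_le A
  have h2 := N.two_le_k A
  nlinarith

/-- The centraliser of `D` is transitive on the fixed points of `D`, with `K` as stabiliser. -/
theorem centralizer_D (hA : Far Adj A Y) (hd : d ≠ 1) :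
    (∀ P : X, (∀ e ∈ S.ker A ⊓ stabilizer G Y, e • P = P) →
      ∃ g ∈ Subgroup.centralizer ((S.ker A ⊓ stabilizer G Y : Subgroup G) : Set G), g • A = P) ∧
    Nat.card (Subgroup.centralizer ((S.ker A ⊓ stabilizer G Y : Subgroup G) : Set G)) =
      Nat.card {P : X // ∀ e ∈ S.ker A ⊓ stabilizer G Y, e • P = P} * k := by
  classical
  set D := S.ker A ⊓ stabilizer G Y with hD
  set C := Subgroup.centralizer (D : Set G) with hC
  have hcd : Nat.card D = d := N.card_D hA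
  obtain ⟨⟨e₀, he₀⟩, he₀1⟩ := Subgroup.ne_bot_iff_exists_ne_one.1
    (show D ≠ ⊥ from fun h => hd (by rw [← hcd, h, Subgroup.card_bot]))
  have he₀1' : e₀ ≠ 1 := fun e => he₀1 (Subtype.ext e)
  have hinv : ∀ g ∈ C, ∀ P : X, (∀ e ∈ D, e • P = P) → ∀ e ∈ D, e • g • P = g • P := by
    intro g hg P hP e he
    rw [← mul_smul, Subgroup.mem_centralizer_iff.1 hg e he, mul_smul, hP e he]
  have hDK : ∀ P : X, (∀ e ∈ D, e • P = P) → ∀ e ∈ D, e ∈ S.ker P :=
    fun P hP e he => N.mem_ker_of_fix he.1 (hP e he)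
  have hKC : ∀ P : X, (∀ e ∈ D, e • P = P) → S.ker P ≤ C := fun P hP y hy =>
    Subgroup.mem_centralizer_iff.2 fun e he => (N.ker_comm hc (hDK P hP e he) hy).eq
  have hst : ∀ P : X, (∀ e ∈ D, e • P = P) → C ⊓ stabilizer G P = S.ker P := by
    intro P hP
    refine le_antisymm (fun g hg => ?_) (le_inf (hKC P hP) S.ker_le)
    exact S.mem_ker_of_commute hg.2 (hDK P hP e₀ he₀) he₀1'
      (Subgroup.mem_centralizer_iff.1 hg.1 e₀ he₀).symm
  have hstab : ∀ P Q : X, (∀ e ∈ D, e • P = P) → (∀ e ∈ D, e • Q = Q) → P ≠ Q →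
      Nat.card ↥(S.ker P ⊓ stabilizer G Q) = d := fun P Q hP hQ hne =>
    N.card_D ⟨hne, N.not_adj_of_fix (hDK P hP e₀ he₀) he₀1' (hP e₀ he₀) (hQ e₀ he₀)⟩
  have hDA : ∀ e ∈ D, e • A = A := fun e he => S.ker_fix he.1
  have htrans : ∀ P : X, (∀ e ∈ D, e • P = P) → ∃ g ∈ C, g • A = P := by
    intro P hP
    by_contra hno
    let Ω : X → Prop := fun R => ∃ g ∈ C, g • A = R
    have hΩ : ∀ R, Ω R → ∀ e ∈ D, e • R = R := by
      rintro R ⟨g, hg, rfl⟩
      exact hinv g hg A hDA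
    have hΩinv : ∀ g ∈ C, ∀ R, Ω R → Ω (g • R) := by
      rintro g hg R ⟨g', hg', rfl⟩
      exact ⟨g * g', mul_mem hg hg', mul_smul _ _ _⟩
    have h1 := card_dvd_card_mul_of_stab (S.ker P) Ω d
      (fun g hg R hR => hΩinv g (hKC P hP hg) R hR)
      (fun R hR => hstab P R hP (hΩ R hR) fun e => hno (e ▸ hR))
    have h2 := card_dvd_card_mul_of_stab (S.ker A) (fun R => Ω R ∧ R ≠ A) d
      (fun g hg R hR => ⟨hΩinv g (hKC A hDA hg) R hR.1, fun e => hR.2
        (MulAction.injective g (e.trans (S.ker_fix hg).symm))⟩)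
      (fun R hR => hstab A R hDA (hΩ R hR.1) (Ne.symm hR.2))
    rw [N.card_ker] at h1 h2
    have h3 : Nat.card {R // Ω R} = Nat.card {R // Ω R ∧ R ≠ A} + 1 := by
      rw [← Nat.card_congr (Equiv.sumCompl fun R : {R // Ω R} => R.1 ≠ A), Nat.card_sum,
        Nat.card_congr (Equiv.subtypeSubtypeEquivSubtypeInter Ω (fun R => R ≠ A))]
      congr 1
      rw [Nat.card_eq_one_iff_unique]
      exact ⟨⟨fun a b => Subtype.ext (Subtype.ext ((not_not.1 a.2).trans (not_not.1 b.2).symm))⟩,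
        ⟨⟨⟨A, 1, one_mem _, one_smul _ _⟩, fun e => e rfl⟩⟩⟩
    rw [h3, add_mul, one_mul] at h1
    exact absurd (Nat.le_of_dvd (hcd ▸ Nat.card_pos) ((Nat.dvd_add_right h2).1 h1))
      (not_le.2 (N.d_lt hc A))
  refine ⟨htrans, ?_⟩
  rw [← (MulAction.stabilizer C A).index_mul_card, MulAction.index_stabilizer]
  congr 1
  · rw [← Nat.card_coe_set_eq]
    refine Nat.card_congr (Equiv.subtypeEquivRight fun P => ⟨?_, fun hP => ?_⟩)
    · rintro ⟨g, rfl⟩
      exact hinv g g.2 A hDA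
    · obtain ⟨g, hg, hgA⟩ := htrans P hP
      exact ⟨⟨g, hg⟩, hgA⟩
  · rw [← N.card_ker A, ← hst A hDA]
    exact Nat.card_congr ⟨fun g => ⟨g.1.1, g.1.2, g.2⟩, fun g => ⟨⟨g.1, g.2.1⟩, g.2.2⟩,
      fun g => rfl, fun g => rfl⟩

end Nums

end Cfsg.Agent.RankThreeFrob
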