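/-
Primitive groups of rank three whose point stabiliser is a Frobenius group on a suborbit:
the setting of the library, and the two groups.

Main results (namespace `Cfsg.Agent.RankThreeFrob`):
* `exists_data` : the setting from the hypotheses
* `conclusion` : `A₅` on ten points, or a regular normal subgroup of order sixteen
-/
import Cfsg.Agent.Lib.RankThreeFrob.Cases
import Cfsg.Agent.Lib.Perm.Regular
import Cfsg.Agent.Lib.Solvable.Basic
import Cfsg.Agent.Lib.CharApp.Burnside
import Cfsg.Agent.S0494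

set_option autoImplicit false
set_option linter.style.haveILetI false
set_option linter.unusedSectionVars false

namespace Cfsg.Agent.RankThreeFrob

open MulAction

variable {G X : Type*} [Group G] [MulAction G X] [Finite G] [Finite X]

/-- The orbital of the pair `(A, B)`. -/
def Orb (G : Type*) {X : Type*} [Group G] [MulAction G X] (A B : X) (P Q : X) : Prop :=
  ∃ g : G, g • A = P ∧ g • B = Q

/-- If the stabiliser of `A` has three orbits, the points outside `A` and one orbit form one. -/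
theorem exists_smul_of_three (A B : X)
    (h3 : Nat.card (MulAction.orbitRel.Quotient ↥(stabilizer G A) X) = 3) (hBA : B ≠ A)
    {Y Y' : X} (hY : Far (Orb G A B) A Y) (hY' : Far (Orb G A B) A Y') :
    ∃ g : G, g • A = A ∧ g • Y = Y' := by
  classical
  set H := stabilizer G A
  haveI := Fintype.ofFinite (MulAction.orbitRel.Quotient ↥H X)
  let mk : X → MulAction.orbitRel.Quotient ↥H X := fun x => Quotient.mk'' x
  have hmk : ∀ x y, mk x = mk y → ∃ g : G, g • A = A ∧ g • y = x := by
    intro x y h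
    obtain ⟨⟨g, hg⟩, e⟩ := MulAction.orbitRel_apply.1 (Quotient.exact' h)
    exact ⟨g, hg, e⟩
  have hA : ∀ x, x ≠ A → mk A ≠ mk x := fun x hx h => by
    obtain ⟨g, hg, e⟩ := hmk A x h
    exact hx (MulAction.injective g (e.trans hg.symm))
  have hB : ∀ {Z}, Far (Orb G A B) A Z → mk B ≠ mk Z := fun hZ h => by
    obtain ⟨g, hg, e⟩ := hmk _ _ h.symm
    exact hZ.2 ⟨g, hg, e⟩
  by_cases h : mk Y' = mk Y
  · exact hmk _ _ h
  exfalso
  have hc : ({mk A, mk B, mk Y, mk Y'} : Finset _).card = 4 := by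
    rw [Finset.card_insert_of_notMem, Finset.card_insert_of_notMem, Finset.card_pair (Ne.symm h)]
    · simp only [Finset.mem_insert, Finset.mem_singleton, not_or]
      exact ⟨hB hY, hB hY'⟩
    · simp only [Finset.mem_insert, Finset.mem_singleton, not_or]
      exact ⟨hA B hBA, hA Y hY.1.symm, hA Y' hY'.1.symm⟩
  have := Finset.card_le_univ ({mk A, mk B, mk Y, mk Y'} : Finset _)
  rw [hc, Fintype.card_eq_nat_card, h3] at this
  omega

theorem exists_data [FaithfulSMul G X] (heven : Even (Nat.card G))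
    (hprim : MulAction.IsPreprimitive G X) (A : X)
    (h3 : Nat.card (MulAction.orbitRel.Quotient ↥(MulAction.stabilizer G A) X) = 3) (B : X)
    (hBA : B ≠ A)
    (hfaith : ∀ g ∈ MulAction.stabilizer G A,
      (∀ h ∈ MulAction.stabilizer G A, g • (h • B) = h • B) → g = 1)
    (hfix : ∃ g ∈ MulAction.stabilizer G A, g ≠ 1 ∧ g • B = B)
    (hfrob : ∀ g ∈ MulAction.stabilizer G A, ∀ h ∈ MulAction.stabilizer G A,
      g • B = B → g • (h • B) = h • B → h • B ≠ B → g = 1) :
    ∃ Adj : X → X → Prop, Data G X Adj := by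
  classical
  set R := Orb G A B with hR
  haveI := hprim
  have hpt : ∀ P Q : X, ∃ g : G, g • P = Q := MulAction.exists_smul_eq G
  have hsmul : ∀ (g : G) {P Q : X}, R P Q → R (g • P) (g • Q) := by
    rintro g P Q ⟨x, rfl, rfl⟩
    exact ⟨g * x, mul_smul _ _ _, mul_smul _ _ _⟩
  have hiff : ∀ (g : G) {P Q : X}, R (g • P) (g • Q) ↔ R P Q := fun g P Q =>
    ⟨fun h => by simpa using hsmul g⁻¹ h, hsmul g⟩
  have hirr : ∀ P, ¬ R P P := by
    rintro P ⟨g, h1, h2⟩
    exact hBA (MulAction.injective g (h2.trans h1.symm))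
  have hadj : ∀ {P Q P' Q' : X}, R P Q → R P' Q' → ∃ g : G, g • P = P' ∧ g • Q = Q' := by
    rintro P Q P' Q' ⟨x, rfl, rfl⟩ ⟨y, rfl, rfl⟩
    exact ⟨y * x⁻¹, by rw [mul_smul, inv_smul_smul], by rw [mul_smul, inv_smul_smul]⟩
  have hfarS : ∀ (g : G) {P Q : X}, Far R P Q → Far R (g • P) (g • Q) := fun g P Q h =>
    ⟨fun e => h.1 (MulAction.injective g e), fun e => h.2 ((hiff g).1 e)⟩
  have hfar : ∀ {P Q P' Q' : X}, Far R P Q → Far R P' Q' →
      ∃ g : G, g • P = P' ∧ g • Q = Q' := by
    intro P Q P' Q' h h'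
    obtain ⟨x, rfl⟩ := hpt A P
    obtain ⟨y, rfl⟩ := hpt A P'
    have h1 := hfarS x⁻¹ h
    have h2 := hfarS y⁻¹ h'
    rw [inv_smul_smul] at h1 h2
    obtain ⟨g, hg, hgQ⟩ := exists_smul_of_three A B h3 hBA h1 h2
    refine ⟨y * g * x⁻¹, by rw [mul_smul, mul_smul, inv_smul_smul, hg], ?_⟩
    rw [mul_smul, mul_smul, hgQ, smul_inv_smul]
  have hAB : R A B := ⟨1, one_smul _ _, one_smul _ _⟩
  have hexfarA : ∃ Y, Far R A Y := by
    by_contra h
    push Not at h
    have hsurj : Function.Surjective (fun b : Bool =>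
        (Quotient.mk'' (bif b then A else B) : MulAction.orbitRel.Quotient ↥(stabilizer G A) X)) := by
      intro q
      induction q using Quotient.inductionOn' with
      | _ x =>
        by_cases hx : A = x
        · exact ⟨true, by rw [← hx]; rfl⟩
        · obtain ⟨g, hg, rfl⟩ : R A x := by
            by_contra hn
            exact h x ⟨hx, hn⟩
          exact ⟨false, Quotient.sound' (MulAction.orbitRel_apply.2
            ⟨(⟨g, hg⟩ : stabilizer G A)⁻¹, inv_smul_smul g B⟩)⟩
    have := Nat.card_le_card_of_surjective _ hsurj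
    rw [h3, Nat.card_eq_fintype_card, Fintype.card_bool] at this
    omega
  have hsymm : ∀ {P Q : X}, R P Q → R Q P := by
    suffices h : R B A by
      rintro P Q ⟨g, rfl, rfl⟩
      exact hsmul g h
    by_contra hn
    -- an involution moves some point
    haveI : Fact (Nat.Prime 2) := ⟨Nat.prime_two⟩
    obtain ⟨t, ht⟩ := exists_prime_orderOf_dvd_card' (G := G) 2 (even_iff_two_dvd.1 heven)
    have ht1 : t ≠ 1 := fun e => by rw [e, orderOf_one] at ht; norm_num at ht
    have htt : t * t = 1 := by rw [← sq, ← ht, pow_orderOf_eq_one]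
    obtain ⟨P, hP⟩ : ∃ P, t • P ≠ P := by
      by_contra h
      push Not at h
      exact ht1 (FaithfulSMul.eq_of_smul_eq_smul (α := X) fun x => by rw [h x, one_smul])
    have htP : t • t • P = P := by rw [← mul_smul, htt, one_smul]
    by_cases hPR : R P (t • P)
    · obtain ⟨g, h1, h2⟩ := hadj hPR hAB
      have := hsmul g (hsmul t hPR)
      rw [htP, h1, h2] at this
      exact hn this
    · obtain ⟨g₀, hg₀⟩ := hpt B A
      have hY : Far R A (g₀ • A) := by
        refine ⟨fun e => hBA (MulAction.injective g₀ (hg₀.trans e)), fun e => hn ?_⟩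
        have e' : R (g₀ • B) (g₀ • A) := by rwa [hg₀]
        exact (hiff g₀).1 e'
      obtain ⟨g, h1, h2⟩ := hfar ⟨fun e => hP e.symm, hPR⟩ hY
      refine hY.2 ⟨g * t * g⁻¹ * g₀, ?_, ?_⟩
      · rw [mul_smul, mul_smul, mul_smul, show g⁻¹ • g₀ • A = t • P from inv_smul_eq_iff.2 h2.symm,
          htP, h1]
      · rw [mul_smul, mul_smul, mul_smul, hg₀, show g⁻¹ • A = P from inv_smul_eq_iff.2 h1.symm, h2]
  have htwoA : ∃ B', R A B' ∧ B' ≠ B := by
    obtain ⟨g, hg, hg1, hgB⟩ := hfix
    by_contra h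
    push Not at h
    refine hg1 (hfaith g hg fun x hx => ?_)
    rw [h (x • B) ⟨x, hx, rfl⟩, hgB]
  have hnot : ∀ (E : X → X → Prop), (∀ (g : G) P Q, E P Q → E (g • P) (g • Q)) →
      (∀ P, ¬ E P P) → (∀ P Q, E P Q → E Q P) → (∃ Q, E A Q) → (∃ Q, Q ≠ A ∧ ¬ E A Q) →
      ¬ ∀ P Q Q' : X, E P Q → E P Q' → Q = Q' ∨ E Q Q' := by
    intro E hE _ hEs ⟨Q₁, hQ₁⟩ ⟨Q₂, hQ₂, hQ₂'⟩ htr
    rcases Perm.eq_or_all_of_invariant_equivalence (G := G) (fun P Q => P = Q ∨ E P Q)
      ⟨fun P => Or.inl rfl, fun {P Q} h => h.elim (fun e => Or.inl e.symm) fun e => Or.inr (hEs _ _ e),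
        fun {P Q Q'} h h' => by
          rcases h with rfl | h
          · exact h'
          rcases h' with rfl | h'
          · exact Or.inr h
          exact htr Q P Q' (hEs _ _ h) h'⟩
      (fun g P Q h => h.elim (fun e => Or.inl (by rw [e])) fun e => Or.inr (hE g _ _ e)) with h | h
    · have e := h A Q₁ (Or.inr hQ₁)
      subst e
      exact ‹∀ P, ¬ E P P› A hQ₁
    · exact hQ₂' ((h A Q₂).resolve_left hQ₂.symm)
  obtain ⟨B', hB', hB'ne⟩ := htwoA
  obtain ⟨Y, hY⟩ := hexfarA
  refine ⟨R, ⟨fun g hg => FaithfulSMul.eq_of_smul_eq_smul (α := X) fun x => by rw [hg x, one_smul],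
    hsmul, hirr, hsymm, hpt, hadj, hfar, fun P => ?_, fun P => ?_, ?_, ?_, ?_, ?_⟩⟩
  · obtain ⟨g, rfl⟩ := hpt A P
    exact ⟨g • B, g • B', hsmul g hAB, hsmul g hB', fun e => hB'ne (MulAction.injective g e).symm⟩
  · obtain ⟨g, rfl⟩ := hpt A P
    exact ⟨g • Y, hfarS g hY⟩
  · intro g P Q Q' h h' hne hP hQ hQ'
    obtain ⟨x, rfl, rfl⟩ := h
    have h'' := hsmul x⁻¹ h'
    rw [inv_smul_smul] at h''
    obtain ⟨y, hy, hyQ⟩ := hadj hAB h''
    have := hfrob (x⁻¹ * g * x) (by rw [mem_stabilizer_iff, mul_smul, mul_smul, hP, inv_smul_smul])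
      y hy (by rw [mul_smul, mul_smul, hQ, inv_smul_smul])
      (by rw [hyQ, mul_smul, mul_smul, smul_inv_smul, hQ'])
      (fun e => hne (by
        rw [hyQ, inv_smul_eq_iff] at e
        exact e.symm))
    calc g = x * (x⁻¹ * g * x) * x⁻¹ := by group
      _ = 1 := by rw [this]; group
  · rintro P Q ⟨x, rfl, rfl⟩ hbot
    obtain ⟨g, hg, hg1, hgB⟩ := hfix
    have : x * g * x⁻¹ ∈ pst G (x • A) (x • B) :=
      mem_pst.2 ⟨by rw [mul_smul, mul_smul, inv_smul_smul, hg],
        by rw [mul_smul, mul_smul, inv_smul_smul, hgB]⟩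
    rw [hbot, Subgroup.mem_bot, conj_eq_one_iff] at this
    exact hg1 this
  · exact hnot (Far R) (fun g P Q => hfarS g) (fun P h => h.1 rfl)
      (fun P Q h => ⟨h.1.symm, fun e => h.2 (hsymm e)⟩) ⟨Y, hY⟩ ⟨B, hBA, fun h => h.2 hAB⟩
  · exact hnot R (fun g P Q => hsmul g) hirr (fun P Q => hsymm) ⟨B, hAB⟩ ⟨Y, hY.1.symm, hY.2⟩

/-- A solvable primitive group has a regular normal subgroup of prime power order. -/
theorem exists_regular_normal [FaithfulSMul G X] [MulAction.IsPreprimitive G X] [Nonempty X]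
    [Group.IsSolvable G] (hX : 1 < Nat.card X) :
    ∃ (p n : ℕ) (N : Subgroup G), p.Prime ∧ N.Normal ∧ Nat.card N = p ^ n ∧
      Nat.card N = Nat.card X ∧ ∀ x y : X, ∃! m : ↥N, (m : G) • x = y := by
  haveI : Nontrivial X := Finite.one_lt_card_iff_nontrivial.1 hX
  obtain ⟨x, y, hxy⟩ := exists_pair_ne X
  obtain ⟨g, hg⟩ := MulAction.exists_smul_eq G x y
  haveI : Nontrivial G := ⟨⟨g, 1, fun e => hxy (by rw [← hg, e, one_smul])⟩⟩
  obtain ⟨p, hp, M, hMn, hM0, -, hMc, hMp, -, -⟩ :=
    Solvable.exists_minimal_normal_pGroup (N := (⊤ : Subgroup G)) top_ne_bot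
  haveI := hMn
  haveI : Fact p.Prime := ⟨hp⟩
  have ht := Perm.isPretransitive_of_normal_ne_bot (G := G) (X := X) hM0
  have hreg : ∀ a : X, MulAction.stabilizer M a = ⊥ := fun a =>
    Perm.stabilizer_eq_bot_of_isMulCommutative ht hMc a
  obtain ⟨n, hn⟩ := hMp.exists_card_eq
  exact ⟨p, n, M, hp, hMn, hn, Perm.card_eq_of_regular ht hreg,
    fun a b => (Perm.bijective_smul_of_regular ht hreg a).existsUnique b⟩

theorem conclusion [Nonempty X] [FaithfulSMul G X] [MulAction.IsPreprimitive G X]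
    (h : (Nat.card X = 10 ∧ Nat.card G = 60) ∨
      (Nat.card X = 16 ∧ (Nat.card G = 576 ∨ Nat.card G = 320))) :
    (Nonempty (G ≃* ↥(alternatingGroup (Fin 5))) ∧ Nat.card X = 10) ∨
    (Group.IsSolvable G ∧ ∃ N : Subgroup G, N.Normal ∧ Nat.card N = 16 ∧
      ∀ x y : X, ∃! n : ↥N, (n : G) • x = y) := by
  rcases h with ⟨hX, hG⟩ | ⟨hX, hG⟩
  · left
    refine ⟨?_, hX⟩
    have hns : ¬ Group.IsSolvable G := fun hs => by
      obtain ⟨p, n, N, hp, -, hn, hNX, -⟩ := exists_regular_normal (G := G) (X := X) (by omega)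
      rw [hn, hX] at hNX
      have h2 : p = 2 := (Nat.prime_dvd_prime_iff_eq Nat.prime_two hp).1
        (Nat.prime_two.dvd_of_dvd_pow (n := n) (by rw [hNX]; norm_num)) |>.symm
      have h5 : p = 5 := (Nat.prime_dvd_prime_iff_eq Nat.prime_five hp).1
        (Nat.prime_five.dvd_of_dvd_pow (n := n) (by rw [hNX]; norm_num)) |>.symm
      omega
    haveI : Nontrivial G := Finite.one_lt_card_iff_nontrivial.1 (by omega)
    haveI : IsSimpleGroup G := ⟨fun N hN => by
      haveI := hN
      by_contra hne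
      rw [not_or] at hne
      have ht := Perm.isPretransitive_of_normal_ne_bot (G := G) (X := X) hne.1
      obtain ⟨a⟩ := ‹Nonempty X›
      have h10 : 10 ∣ Nat.card N := by
        have h1 := MulAction.index_stabilizer_of_transitive N a
        rw [hX] at h1
        exact h1 ▸ Subgroup.index_dvd_card _
      have hlt : Nat.card N < 60 := by
        rw [← hG]
        refine lt_of_le_of_ne (Subgroup.card_le_card_group N) fun e => hne.2 ?_
        exact Subgroup.eq_top_of_card_eq N e
      have hdvd : Nat.card N ∣ 60 := hG ▸ N.card_subgroup_dvd_card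
      have hquot : Nat.card (G ⧸ N) * Nat.card N = 60 := by
        rw [← hG, N.card_eq_card_quotient_mul_card_subgroup]
      obtain ⟨w, hw⟩ := h10
      have hwv : w = 1 ∨ w = 2 ∨ w = 3 := by
        have : w ≤ 5 := by omega
        interval_cases w <;> simp_all <;> omega
      apply hns
      have hsolN : Group.IsSolvable N := by
        rcases hwv with rfl | rfl | rfl
        · exact CharApp.isSolvable_of_card_eq_prime_pow_mul 2 5 Nat.prime_two Nat.prime_five _ N
            rfl 1 1 hw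
        · exact CharApp.isSolvable_of_card_eq_prime_pow_mul 2 5 Nat.prime_two Nat.prime_five _ N
            rfl 2 1 hw
        · haveI : IsZGroup N := IsZGroup.of_squarefree (by
            rw [hw, show 10 * 3 = 2 * (3 * 5) from rfl]
            exact (Nat.squarefree_mul (by norm_num)).2 ⟨Nat.prime_two.squarefree,
              (Nat.squarefree_mul (by norm_num)).2 ⟨Nat.prime_three.squarefree,
                Nat.prime_five.squarefree⟩⟩)
          infer_instance
      have hsolQ : Group.IsSolvable (G ⧸ N) := by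
        rcases hwv with rfl | rfl | rfl
        · exact CharApp.isSolvable_of_card_eq_prime_pow_mul 2 3 Nat.prime_two Nat.prime_three _ _
            rfl 1 1 (by rw [hw] at hquot; omega)
        · exact CharApp.isSolvable_of_card_eq_prime_pow_mul 2 3 Nat.prime_two Nat.prime_three _ _
            rfl 0 1 (by rw [hw] at hquot; omega)
        · exact CharApp.isSolvable_of_card_eq_prime_pow_mul 2 3 Nat.prime_two Nat.prime_three _ _
            rfl 1 0 (by rw [hw] at hquot; omega)
      exact Group.isSolvable_of_ker_le_range N.subtype (QuotientGroup.mk' N) (by simp)⟩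
    exact Cfsg.Agent.S0494.result hG
  · right
    haveI hs : Group.IsSolvable G := by
      rcases hG with hG | hG
      · exact CharApp.isSolvable_of_card_eq_prime_pow_mul 2 3 Nat.prime_two Nat.prime_three _ G
          rfl 6 2 hG
      · exact CharApp.isSolvable_of_card_eq_prime_pow_mul 2 5 Nat.prime_two Nat.prime_five _ G
          rfl 6 1 hG
    obtain ⟨p, n, N, -, hN, -, hNX, hreg⟩ := exists_regular_normal (G := G) (X := X) (by omega)
    exact ⟨hs, N, hN, hNX.trans hX, hreg⟩

end Cfsg.Agent.RankThreeFrob
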